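import Cfsg.Agent.H478.HN3D
import Cfsg.Agent.CpAutHN.Second
import Cfsg.Agent.H678.HNT.Cent
import Cfsg.Agent.FastGrp
import Cfsg.Agent.Prune
set_option linter.all false
prune_inst 0x7f00000000000000000000000000000000000000000000000000000000000000000000000000000000000000000000000000000000000000000000000000000000000000000000000000000000000000003fffffffffffffffffffffffffffbeffbdffffffff
open scoped Cfsg.Agent.FastGrp

-- part: H789/Ore/HNFif
section
/-!
# ORE (S2443), row `HN` (helper789): elements of order divisible by 15, I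

The centralizers `C(X1) ∩ C(b)` and `C(X3) ∩ C(b)`, `b` of order 5, from `C(X1) = ⟨X1⟩ × A9`.
-/

set_option autoImplicit false

namespace Cfsg.Agent.H789.Ore.HNFif

open Subgroup Cfsg Cfsg.Agent
open Cfsg.Agent.CpAutHN.Alt
open Cfsg.Agent.CpAutHN.Tr
open Cfsg.Agent.CpAutHN.Pairs
open Cfsg.Agent.CpAutHN.Second
open Cfsg.Agent.CpAutHN.NineAlt (A9)
open Cfsg.Agent.KFacts.HN (A5)
open Cfsg.Agent.H569.HNThree (card_G finite_G MM ss order_ss comm_core C12 card_C12)
open Cfsg.Agent.H478.HNThree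

attribute [local instance] Cfsg.Agent.H569.HNThree.finite_G

/-- `C(X1) = ⟨X1⟩ × A9` -/
def Main : Prop := ∀ h : G, h * X1 = X1 * h → ∃ i : ℤ, ∃ a : A9, h = X1 ^ i * Φ (ι a)

theorem range_of_comm (hm : Main) {b : G} (h : b * X1 = X1 * b) : ∃ a : A12, Φ a = b := by
  obtain ⟨i, a, rfl⟩ := hm b h
  refine ⟨(⟨x1, x1_mem⟩ : A12) ^ i * ι a, ?_⟩
  rw [map_mul, map_zpow]
  rfl

/-- no element of prime order at least 5 commutes with `X1` and `X3` -/
theorem lemL (hm : Main) {b : G} {r : ℕ} (hr : r.Prime) (h5 : 5 ≤ r) (hb : orderOf b = r) (h1 : b * X1 = X1 * b)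
    (h3 : b * X3 = X3 * b) : False := by
  obtain ⟨a, rfl⟩ := range_of_comm hm h1
  have h4 : a ∈ C12 := by
    rw [mem_centralizer_singleton_iff]
    apply Φ_inj
    rw [map_mul, map_mul]
    exact h3
  have h6 : r ∣ Nat.card ↥C12 := by
    rw [← hb, orderOf_injective Φ Φ_inj, ← Subgroup.orderOf_mk a h4]
    exact orderOf_dvd_natCard _
  have h7 : r ∣ 2 ^ 2 * 3 ^ 5 := h6.trans (card_C12.1.trans (by norm_num))
  rcases hr.dvd_mul.1 h7 with h | h
  · have := (Nat.prime_dvd_prime_iff_eq hr Nat.prime_two).1 (hr.dvd_of_dvd_pow h)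
    omega
  · have := (Nat.prime_dvd_prime_iff_eq hr Nat.prime_three).1 (hr.dvd_of_dvd_pow h)
    omega

theorem conj_xx {b : MM} {n : ℤ} (h : b * dd * b⁻¹ = xx ^ n * dd) (k : ℕ) :
    b ^ k * dd * (b ^ k)⁻¹ = xx ^ (n * k) * dd := by
  have hc : ∀ (m : ℤ) (x : MM), x * xx ^ m = xx ^ m * x := fun m x =>
    ((show Commute x xx from xx_comm x).zpow_right m).eq
  induction k with
  | zero => simp
  | succ k ih =>
    calc b ^ (k + 1) * dd * (b ^ (k + 1))⁻¹ = b * (b ^ k * dd * (b ^ k)⁻¹) * b⁻¹ := by rw [pow_succ']; group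
      _ = b * xx ^ (n * k) * dd * b⁻¹ := by rw [ih]; group
      _ = xx ^ (n * k) * (b * dd * b⁻¹) := by rw [hc]; group
      _ = xx ^ (n * k) * xx ^ n * dd := by rw [h]; group
      _ = xx ^ (n * (k + 1 : ℕ)) * dd := by
        rw [← zpow_add]
        congr 2
        push_cast
        ring

/-- an element of prime order at least 5 does not lie in the odd core -/
theorem not_mem_OO (hm : Main) {b : MM} {r : ℕ} (hr : r.Prime) (h5 : 5 ≤ r) (hb : orderOf b = r) : b ∉ OO := by
  intro hO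
  obtain ⟨n, hn⟩ := comm_mod hO dd_mem
  have h1 := conj_xx hn r
  rw [← hb, pow_orderOf_eq_one, hb, one_mul, inv_one, mul_one] at h1
  have h2 : xx ^ (n * r) = 1 := mul_eq_right.1 h1.symm
  have h3 : (3 : ℤ) ∣ n * r := by
    have := orderOf_dvd_iff_zpow_eq_one.2 h2
    rwa [order_xx] at this
  have h4 : (3 : ℤ) ∣ n := by
    refine (Int.isCoprime_iff_gcd_eq_one.2 ?_).dvd_of_dvd_mul_right h3
    have : Nat.Coprime 3 r := (Nat.coprime_primes Nat.prime_three hr).2 (by omega)
    exact this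
  have h6 : xx ^ n = 1 := orderOf_dvd_iff_zpow_eq_one.1 (by rw [order_xx]; exact h4)
  rw [h6, one_mul, mul_inv_eq_iff_eq_mul] at hn
  refine lemL hm hr h5 (b := (b : G)) (by rw [Subgroup.orderOf_coe, hb]) ?_ ?_
  · have := congrArg Subtype.val hn
    exact this
  · exact mem_centralizer_singleton_iff.1 b.2

theorem card_OO (hm : Main) : ∃ k : ℕ, Nat.card OO = 3 ^ k := by
  refine ⟨_, Nat.eq_prime_pow_of_unique_prime_dvd Nat.card_pos.ne' fun {q} hq hd => ?_⟩
  have : Fact q.Prime := ⟨hq⟩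
  by_contra hne
  obtain ⟨b, hb⟩ := exists_prime_orderOf_dvd_card' (G := OO) q hd
  have h2 : q ≠ 2 := by
    rintro rfl
    exact (Nat.not_even_iff_odd.2 odd_OO) (even_iff_two_dvd.2 hd)
  have h5 : 5 ≤ q := by
    have := hq.two_le
    have h4 : q ≠ 4 := by rintro rfl; norm_num at hq
    omega
  exact not_mem_OO hm hq h5 (by rw [Subgroup.orderOf_coe, hb]) b.2

/-! ### the quotient by the odd core -/

theorem card_ker_κ : Nat.card ↥κ.ker ≤ 6 := by
  have h : ∀ k : κ.ker, ∃ p : Fin 2 × Fin 3, (((k : KK) : MM) : G) = S3 ^ (p.1 : ℕ) * X3 ^ (p.2 : ℕ) := by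
    intro k
    obtain ⟨i, hi⟩ := ker_κ (MonoidHom.mem_ker.1 k.2)
    have h3 : X3 ^ i = X3 ^ (i % 3) := by rw [← order_X3, pow_mod_orderOf]
    rcases hi with hi | hi
    · exact ⟨(0, ⟨i % 3, Nat.mod_lt _ (by norm_num)⟩), by rw [hi, h3]; simp⟩
    · exact ⟨(1, ⟨i % 3, Nat.mod_lt _ (by norm_num)⟩), by rw [hi, h3]; simp⟩
  choose f hf using h
  have h1 := Nat.card_le_card_of_injective f (fun a b hab => by
    have h2 := hf a
    rw [hab, ← hf b] at h2
    exact Subtype.ext (Subtype.ext (Subtype.ext h2)))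
  rw [Nat.card_prod, Nat.card_fin, Nat.card_fin] at h1
  exact h1

theorem card_KK : Nat.card ↥KK ≤ 360 := by
  have h1 := Subgroup.card_eq_card_quotient_mul_card_subgroup κ.ker
  have h2 : Nat.card (↥KK ⧸ κ.ker) = 60 := by
    rw [Nat.card_congr (QuotientGroup.quotientKerEquivOfSurjective κ κ_surj).toEquiv]
    rw [Nat.card_eq_fintype_card]
    decide +kernel
  rw [h1, h2]
  have := card_ker_κ
  omega

/-- the map of `KK` to the quotient -/
noncomputable def pK : KK →* MM ⧸ OO := (QuotientGroup.mk' OO).comp KK.subtype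

theorem pK_surj : Function.Surjective pK := by
  intro y
  obtain ⟨m, rfl⟩ := QuotientGroup.mk'_surjective OO y
  have h2 : m ∈ OO ⊔ KK := by
    rw [H569.KleinIso.core_sup order_ss comm_core]; exact mem_top _
  obtain ⟨o, ho, k, hk, hnk⟩ := mem_sup_of_normal_left.1 h2
  refine ⟨⟨k, hk⟩, ?_⟩
  have h6 : (QuotientGroup.mk' OO) o = 1 := (QuotientGroup.eq_one_iff _).2 ho
  rw [← hnk, map_mul, h6, one_mul]
  rfl

theorem xx_KK : xx ∈ KK := mem_centralizer_singleton_iff.2 (xx_comm ss).symm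

theorem three_le_ker : 3 ≤ Nat.card ↥pK.ker := by
  have h1 : (⟨xx, xx_KK⟩ : KK) ∈ pK.ker := by
    rw [MonoidHom.mem_ker]
    exact (QuotientGroup.eq_one_iff _).2 (Z_le (mem_zpowers xx))
  have h2 : orderOf (⟨⟨xx, xx_KK⟩, h1⟩ : pK.ker) = 3 := by
    rw [Subgroup.orderOf_mk, Subgroup.orderOf_mk, order_xx]
  have h3 := orderOf_dvd_natCard (⟨⟨xx, xx_KK⟩, h1⟩ : pK.ker)
  rw [h2] at h3
  exact Nat.le_of_dvd Nat.card_pos h3

theorem card_quot : Nat.card (MM ⧸ OO) ≤ 120 := by
  have h1 := Subgroup.card_eq_card_quotient_mul_card_subgroup pK.ker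
  rw [Nat.card_congr (QuotientGroup.quotientKerEquivOfSurjective pK pK_surj).toEquiv] at h1
  have h2 := card_KK
  rw [h1] at h2
  have h3 := three_le_ker
  by_contra hcon
  push Not at hcon
  have h4 : 121 * 3 ≤ Nat.card (MM ⧸ OO) * Nat.card ↥pK.ker := Nat.mul_le_mul hcon h3
  omega

theorem three_dvd_quot : 3 ∣ Nat.card (MM ⧸ OO) := by
  let y : MM := ⟨H569.HNThree.YA, mem_centralizer_singleton_iff.2 H569.HNThree.comm_YX⟩
  have hy3 : y ^ 3 = 1 := by
    apply Subtype.ext
    rw [Subgroup.coe_pow, ← H569.HNThree.order_YA]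
    exact pow_orderOf_eq_one _
  have hy : y ∉ OO := by
    intro h
    have h1 : y * ss = ss * y := Subtype.ext (H569.HNThree.comm_SY).symm
    have h2 := inf_OO h h1
    obtain ⟨i, hi⟩ := mem_zpowers_iff.1 h2
    have h3 : H569.HNThree.YA ∈ zpowers X3 := by
      rw [mem_zpowers_iff]
      refine ⟨i, ?_⟩
      have := congrArg (Subtype.val : MM → G) hi
      rw [Subgroup.coe_zpow] at this
      exact this
    have h4 := H569.HNThree.nine_dvd
    have h5 : H569.HNThree.D9 = zpowers X3 := by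
      unfold H569.HNThree.D9
      exact sup_eq_right.2 (zpowers_le.2 h3)
    rw [h5, Nat.card_zpowers, order_X3] at h4
    norm_num at h4
  have h1 : (QuotientGroup.mk' OO) y ≠ 1 := fun h => hy ((QuotientGroup.eq_one_iff _).1 h)
  have h2 : orderOf ((QuotientGroup.mk' OO) y) = 3 := by
    have : Fact (Nat.Prime 3) := ⟨Nat.prime_three⟩
    exact orderOf_eq_prime (by rw [← map_pow, hy3, map_one]) h1
  rw [← h2]
  exact orderOf_dvd_natCard _

theorem card_OO_le (hm : Main) : ∃ k ≤ 5, Nat.card OO = 3 ^ k := by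
  obtain ⟨k, hk⟩ := card_OO hm
  refine ⟨k, ?_, hk⟩
  by_contra hcon
  push Not at hcon
  have h1 := Subgroup.card_eq_card_quotient_mul_card_subgroup OO
  obtain ⟨c, hc⟩ := three_dvd_quot
  have h2 : 3 ^ 7 ∣ Nat.card MM := by
    rw [h1, hk, hc]
    obtain ⟨j, rfl⟩ := Nat.exists_eq_add_of_le hcon
    exact ⟨c * 3 ^ j, by ring⟩
  have h3 : 3 ^ 7 ∣ 273030912000000 := by
    rw [← card_G]
    exact h2.trans (card_subgroup_dvd_card MM)
  norm_num at h3

/-- **the second type**: `|C(X3) ∩ C(b)| ≤ 9720` for `b` of prime order at least 5 -/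
theorem card_X3 (hm : Main) {b : MM} {r : ℕ} (hr : r.Prime) (h5 : 5 ≤ r) (hb : orderOf b = r) :
    Nat.card ↥(centralizer ({b} : Set MM)) ≤ 9720 := by
  obtain ⟨k, hk, hO⟩ := card_OO_le hm
  -- the intersection with the core
  set D := centralizer ({b} : Set MM) with hD
  have hdd : dd ∉ D := by
    intro h
    have h1 := mem_centralizer_singleton_iff.1 h
    refine lemL hm hr h5 (b := (b : G)) (by rw [Subgroup.orderOf_coe, hb]) ?_ ?_
    · exact (congrArg Subtype.val h1).symm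
    · exact mem_centralizer_singleton_iff.1 b.2
  have h1 : Nat.card ↥(D ⊓ OO : Subgroup MM) ∣ 3 ^ k := by
    rw [← hO]
    exact card_dvd_of_le inf_le_right
  have h2 : Nat.card ↥(D ⊓ OO : Subgroup MM) ≠ 3 ^ k := by
    intro h
    rw [← hO] at h
    have h3 : D ⊓ OO = OO := Subgroup.eq_of_le_of_card_ge inf_le_right h.ge
    exact hdd (inf_eq_right.1 h3 dd_mem)
  obtain ⟨j, hj, hjc⟩ := (Nat.dvd_prime_pow Nat.prime_three).1 h1
  have hj4 : j ≤ 4 := by
    by_contra hcon
    have : j = k := by omega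
    exact h2 (by rw [hjc, this])
  have h3 : Nat.card ↥(D ⊓ OO : Subgroup MM) ≤ 81 := by
    rw [hjc]
    calc 3 ^ j ≤ 3 ^ 4 := Nat.pow_le_pow_right (by norm_num) hj4
      _ = 81 := by norm_num
  -- the image
  have h4 := Subgroup.card_eq_card_quotient_mul_card_subgroup ((QuotientGroup.mk' OO).comp D.subtype).ker
  have h6 : Nat.card (↥D ⧸ ((QuotientGroup.mk' OO).comp D.subtype).ker) ≤ 120 := by
    rw [Nat.card_congr (QuotientGroup.quotientKerEquivRange ((QuotientGroup.mk' OO).comp D.subtype)).toEquiv]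
    exact (Nat.card_le_card_of_injective _ (Subgroup.subtype_injective _)).trans card_quot
  have h7 : Nat.card ↥((QuotientGroup.mk' OO).comp D.subtype).ker ≤ 81 := by
    refine le_trans ?_ h3
    refine Nat.card_le_card_of_injective (fun x => ⟨(x : D), ⟨(x : D).2, ?_⟩⟩) ?_
    · exact (QuotientGroup.eq_one_iff _).1 (MonoidHom.mem_ker.1 x.2)
    · intro x y h
      exact Subtype.ext (Subtype.ext (congrArg (fun t : ↥(D ⊓ OO : Subgroup MM) => (t : MM)) h))
  rw [h4]
  calc _ ≤ 120 * 81 := Nat.mul_le_mul h6 h7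
    _ = 9720 := by norm_num

/-! ### the first type -/

theorem card_cent_five {a : A9} (ha : orderOf a = 5) : Nat.card ↥(centralizer ({a} : Set A9)) ≤ 120 := by
  set σ : Equiv.Perm (Fin 9) := a.1 with hσ
  have ho : orderOf σ = 5 := by rw [hσ, Subgroup.orderOf_coe, ha]
  have hc : σ.cycleType = {5} := by
    obtain ⟨n, hn⟩ := Equiv.Perm.cycleType_prime_order (σ := σ) (by rw [ho]; norm_num)
    rw [ho] at hn
    have h1 : σ.cycleType.sum ≤ 9 := by
      have := σ.sum_cycleType_le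
      rwa [Fintype.card_fin] at this
    rw [hn, Multiset.sum_replicate, smul_eq_mul] at h1
    have : n = 0 := by omega
    rw [hn, this]
    rfl
  have h := Equiv.Perm.nat_card_centralizer σ
  rw [hc] at h
  have h120 : Nat.card ↥(centralizer ({σ} : Set (Equiv.Perm (Fin 9)))) = 120 := by
    rw [h]
    decide +kernel
  rw [← h120]
  refine Nat.card_le_card_of_injective (fun x => ⟨(x : A9).1, ?_⟩) ?_
  · rw [mem_centralizer_singleton_iff]
    exact congrArg Subtype.val (mem_centralizer_singleton_iff.1 x.2)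
  · intro x y hxy
    have h1 : (x : A9).1 = (y : A9).1 := congrArg (fun t : ↥(centralizer ({σ} : Set (Equiv.Perm (Fin 9)))) =>
      (t : Equiv.Perm (Fin 9))) hxy
    exact Subtype.ext (Subtype.ext h1)

theorem X1_comm (i : ℤ) (a : A9) : X1 ^ i * Φ (ι a) = Φ (ι a) * X1 ^ i := by
  have h : Commute X1 (Φ (ι a)) := (mem_centralizer_singleton_iff.1 (Ψ a).2).symm
  exact (h.zpow_left i).eq

theorem X1_three : X1 ^ 3 = 1 := by rw [← order_X1, pow_orderOf_eq_one]

theorem X1_mod (i : ℤ) : X1 ^ i = X1 ^ (i % 3).toNat := by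
  rw [← zpow_natCast, Int.toNat_of_nonneg (Int.emod_nonneg i (by norm_num))]
  have h4 := zpow_mod_orderOf X1 i
  rw [order_X1] at h4
  exact h4.symm

/-- elements of order 5 of `C(X1)` -/
theorem eq_of_five (hm : Main) {b : G} (hb : orderOf b = 5) (h1 : b * X1 = X1 * b) :
    ∃ a : A9, orderOf a = 5 ∧ b = Φ (ι a) := by
  obtain ⟨i, a, h⟩ := hm b h1
  have hc : Commute (X1 ^ i) (Φ (ι a)) := X1_comm i a
  have h2 : b = Φ (ι (a ^ 6)) := by
    have h5 : b ^ 5 = 1 := by rw [← hb, pow_orderOf_eq_one]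
    calc b = b ^ 6 := by rw [pow_succ, h5, one_mul]
      _ = (X1 ^ i) ^ 6 * (Φ (ι a)) ^ 6 := by rw [h, hc.mul_pow]
      _ = Φ (ι (a ^ 6)) := by
        have : (X1 ^ i) ^ 6 = 1 := by
          rw [← zpow_natCast, ← zpow_mul, mul_comm, zpow_mul]
          have : X1 ^ ((6 : ℕ) : ℤ) = 1 := by
            rw [zpow_natCast, show 6 = 3 * 2 by norm_num, pow_mul, X1_three, one_pow]
          rw [this, one_zpow]
        rw [this, one_mul, map_pow, map_pow]
  refine ⟨a ^ 6, ?_, h2⟩
  rw [← hb, h2, orderOf_injective Φ Φ_inj, orderOf_injective ι ι_inj]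

/-- **the first type** -/
theorem card_X1 (hm : Main) {b : G} (hb : orderOf b = 5) (h1 : b * X1 = X1 * b) :
    Nat.card ↥(centralizer ({X1} : Set G) ⊓ centralizer ({b} : Set G) : Subgroup G) ≤ 360 := by
  obtain ⟨a0, ha0, h0⟩ := eq_of_five hm hb h1
  have key : ∀ c : ↥(centralizer ({X1} : Set G) ⊓ centralizer ({b} : Set G) : Subgroup G),
      ∃ p : Fin 3 × ↥(centralizer ({a0} : Set A9)), (c : G) = X1 ^ (p.1 : ℕ) * Φ (ι p.2) := by
    intro c
    obtain ⟨i, a, h⟩ := hm c (mem_centralizer_singleton_iff.1 c.2.1)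
    have hcb := mem_centralizer_singleton_iff.1 c.2.2
    have h3 : a * a0 = a0 * a := by
      apply ι_inj
      apply Φ_inj
      rw [map_mul, map_mul, map_mul, map_mul]
      have e1 : X1 ^ i * (Φ (ι a) * Φ (ι a0)) = X1 ^ i * (Φ (ι a0) * Φ (ι a)) := by
        calc X1 ^ i * (Φ (ι a) * Φ (ι a0)) = (c : G) * b := by rw [h, h0, mul_assoc]
          _ = b * c := hcb
          _ = Φ (ι a0) * X1 ^ i * Φ (ι a) := by rw [h, h0, mul_assoc]
          _ = X1 ^ i * (Φ (ι a0) * Φ (ι a)) := by rw [← X1_comm, mul_assoc]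
      exact mul_left_cancel e1
    refine ⟨(⟨(i % 3).toNat, ?_⟩, ⟨a, mem_centralizer_singleton_iff.2 h3⟩), ?_⟩
    · have h4 := Int.emod_lt_of_pos i (show (0 : ℤ) < 3 by norm_num)
      have h5 := Int.emod_nonneg i (show (3 : ℤ) ≠ 0 by norm_num)
      omega
    · rw [h, X1_mod]
  choose f hf using key
  have h2 := Nat.card_le_card_of_injective f (fun x y hxy => by
    have h3 := hf x
    rw [hxy, ← hf y] at h3
    exact Subtype.ext h3)
  rw [Nat.card_prod, Nat.card_fin] at h2
  have h3 := card_cent_five ha0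
  omega

/-! ### the result -/

theorem exists_pow {g : G} {p : ℕ} (hp : p ∣ orderOf g) (h0 : orderOf g ≠ 0) :
    orderOf (g ^ (orderOf g / p)) = p := by
  obtain ⟨k, hk⟩ := hp
  have hp0 : p ≠ 0 := by rintro rfl; exact h0 (by rw [hk, zero_mul])
  have hk0 : k ≠ 0 := by rintro rfl; exact h0 (by rw [hk, mul_zero])
  rw [orderOf_pow' _ (by rw [hk, Nat.mul_div_cancel_left _ (Nat.pos_of_ne_zero hp0)]; exact hk0)]
  rw [hk, Nat.mul_div_cancel_left _ (Nat.pos_of_ne_zero hp0), Nat.gcd_mul_left_left,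
    Nat.mul_div_cancel _ (Nat.pos_of_ne_zero hk0)]

theorem card_cent_conj (c x : G) : Nat.card ↥(centralizer ({c * x * c⁻¹} : Set G)) =
    Nat.card ↥(centralizer ({x} : Set G)) := by
  have h : centralizer ({c * x * c⁻¹} : Set G) = (centralizer ({x} : Set G)).map (MulAut.conj c).toMonoidHom := by
    ext y
    rw [mem_map]
    constructor
    · intro hy
      refine ⟨c⁻¹ * y * c, ?_, ?_⟩
      · rw [mem_centralizer_singleton_iff] at hy ⊢
        calc c⁻¹ * y * c * x = c⁻¹ * (y * (c * x * c⁻¹)) * c := by group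
          _ = c⁻¹ * (c * x * c⁻¹ * y) * c := by rw [hy]
          _ = _ := by group
      · change c * (c⁻¹ * y * c) * c⁻¹ = y
        group
    · rintro ⟨z, hz, rfl⟩
      rw [mem_centralizer_singleton_iff] at hz ⊢
      change c * z * c⁻¹ * (c * x * c⁻¹) = c * x * c⁻¹ * (c * z * c⁻¹)
      calc c * z * c⁻¹ * (c * x * c⁻¹) = c * (z * x) * c⁻¹ := by group
        _ = c * (x * z) * c⁻¹ := by rw [hz]
        _ = _ := by group
  rw [h]
  exact card_map_of_injective (MulAut.conj c).injective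

/-- **elements of order divisible by 15** -/
theorem card_fifteen (hm : Main) (hinv : ∀ a : G, orderOf a = 3 → ∃ t : G, orderOf t = 2 ∧ t * a = a * t) {x : G}
    (hx : 15 ∣ orderOf x) : Nat.card ↥(centralizer ({x} : Set G)) ≤ 9720 := by
  have h0 : orderOf x ≠ 0 := (orderOf_pos x).ne'
  have ha : orderOf (x ^ (orderOf x / 3)) = 3 := exists_pow ((by norm_num : 3 ∣ 15).trans hx) h0
  obtain ⟨t, ht, hta⟩ := hinv _ ha
  obtain ⟨c, hc⟩ := H569.HNThree.conj_of_comm (H569.HNThree.pow_three_of_order ha) ht hta.symm (by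
    intro h
    rw [h, orderOf_one] at ha
    norm_num at ha)
  have hxc : orderOf (c * x * c⁻¹) = orderOf x := MulEquiv.orderOf_eq (MulAut.conj c) x
  rw [← card_cent_conj c x]
  have h1 : c * x ^ (orderOf x / 3) * c⁻¹ = (c * x * c⁻¹) ^ (orderOf (c * x * c⁻¹) / 3) := by rw [hxc, conj_pow]
  rw [h1] at hc
  rw [← hxc] at hx h0
  generalize c * x * c⁻¹ = z at hc hx h0
  have hb : orderOf (z ^ (orderOf z / 5)) = 5 := exists_pow ((by norm_num : 5 ∣ 15).trans hx) h0
  have hcomm : ∀ y ∈ centralizer ({z} : Set G), ∀ n : ℕ, y * z ^ n = z ^ n * y := fun y hy n =>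
    (Commute.pow_right (mem_centralizer_singleton_iff.1 hy) n).eq
  rcases hc with h | h
  · refine le_trans ?_ ((card_X1 hm (b := z ^ (orderOf z / 5)) hb ?_).trans (by norm_num))
    · refine Nat.card_le_card_of_injective (Subgroup.inclusion ?_) (Subgroup.inclusion_injective _)
      intro y hy
      refine mem_inf.2 ⟨?_, ?_⟩
      · rw [mem_centralizer_singleton_iff, ← h]
        exact hcomm y hy _
      · rw [mem_centralizer_singleton_iff]
        exact hcomm y hy _
    · rw [← h]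
      exact ((Commute.refl z).pow_pow _ _).eq
  · have hbM : z ^ (orderOf z / 5) ∈ MM := by
      rw [mem_centralizer_singleton_iff, ← h]
      exact ((Commute.refl z).pow_pow _ _).eq
    refine le_trans ?_ (card_X3 hm (b := ⟨z ^ (orderOf z / 5), hbM⟩) (r := 5) (by norm_num) le_rfl
      (by rw [Subgroup.orderOf_mk, hb]))
    have hyM : ∀ y ∈ centralizer ({z} : Set G), y ∈ MM := by
      intro y hy
      rw [mem_centralizer_singleton_iff, ← h]
      exact hcomm y hy _
    refine Nat.card_le_card_of_injective (fun y => ⟨⟨(y : G), hyM y y.2⟩, ?_⟩) ?_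
    · rw [mem_centralizer_singleton_iff]
      exact Subtype.ext (hcomm y y.2 _)
    · intro y y' hyy
      exact Subtype.ext (congrArg (fun t : ↥(centralizer ({(⟨z ^ (orderOf z / 5), hbM⟩ : MM)} : Set MM)) =>
        ((t : MM) : G)) hyy)

end Cfsg.Agent.H789.Ore.HNFif
end

-- part: H789/Ore/HNMain
section
/-!
# ORE (S2443), row `HN` (helper789): `C(X1) = ⟨X1⟩ × A9` in the form needed in `HNFif`
-/

set_option autoImplicit false

namespace Cfsg.Agent.H789.Ore.HNFif

open Subgroup Cfsg Cfsg.Agent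
open Cfsg.Agent.CpAutHN.Alt
open Cfsg.Agent.CpAutHN.Pairs
open Cfsg.Agent.CpAutHN.Second

theorem main : Main := by
  intro h hc
  obtain ⟨i, a, e⟩ := H678.HNT.Cent.main ⟨h, mem_centralizer_singleton_iff.2 hc⟩
  refine ⟨i, a, ?_⟩
  have := congrArg Subtype.val e
  rw [Subgroup.coe_mul, Subgroup.coe_zpow, Ψ_coe] at this
  exact this

end Cfsg.Agent.H789.Ore.HNFif
end
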