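import Mathlib
import Cfsg.Agent.CpAutHN.Second
import Cfsg.Agent.H6.ORE.LargeOre
import Cfsg.Agent.H134.Sq.Base_m3
import Cfsg.Agent.Lib.FastPerm
import Cfsg.Agent.H789.MS.HN25B_m3
import Cfsg.Agent.HN.RepData
import Cfsg.Agent.H285.Ccp.HNFive
import Cfsg.Agent.Lib.PackCol
import Cfsg.Agent.KFacts.HN.Sheet
import Cfsg.Agent.H285.Ccp.HNThree_m3
import Cfsg.Agent.H497.Stein.Eng
import Cfsg.Agent.S1701
import Cfsg.Agent.H65.Ore.Split_m3
import Cfsg.Agent.H511.Ore.WRow_m3
import Cfsg.Agent.H845.HNNineteen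
import Cfsg.Agent.H315.PwHN
import Cfsg.Agent.HN.Syl
import Cfsg.Agent.H749.PCl
import Cfsg.Agent.FastGrp
import Cfsg.Agent.Prune
set_option linter.all false

-- part: H981/Ore/HNPP
section
set_option linter.all false
open scoped Cfsg.Agent.FastGrp

-- part: H981/Ore/HNA5
section
/-!
# Ore, row HN: commutators in `A5` with an entry of order three, with an entry of order two (helper981)
-/

set_option autoImplicit false

namespace Cfsg.Agent.H981.Ore.HNA5

open Equiv

/-- products of two transpositions -/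
def sw2 (n : ℕ) : Perm (Fin 5) :=
  swap (Fin.ofNat 5 (n / 125)) (Fin.ofNat 5 (n / 25)) * swap (Fin.ofNat 5 (n / 5)) (Fin.ofNat 5 n)

def P3 : List (ℕ × ℕ) := [
  (27, 27), (27, 28), (27, 29), (27, 33), (27, 34), (27, 38), (27, 39), (27, 44), (27, 79), (27, 84),
  (27, 89), (27, 94), (27, 108), (27, 113), (27, 209), (27, 214), (27, 219), (27, 238), (27, 339), (27, 344),
  (28, 29), (28, 34), (28, 39), (28, 44), (28, 54), (28, 59), (28, 64), (28, 69), (28, 113), (28, 189),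
  (28, 238), (28, 339), (28, 344), (29, 38), (29, 53), (29, 63), (29, 69), (29, 89), (29, 339), (29, 344),
  (32, 84), (32, 89), (32, 108), (32, 113), (32, 214), (32, 238), (33, 107), (33, 113), (33, 194), (33, 238),
  (34, 194), (34, 214), (53, 54), (53, 64), (53, 69), (53, 219), (54, 209), (183, 184), (183, 189),
  (183, 194)]

def P2 : List (ℕ × ℕ) := [
  (38, 27), (38, 28), (38, 29), (38, 34), (38, 38), (38, 39), (38, 44), (38, 54), (38, 59), (38, 64),
  (38, 69), (38, 79), (38, 84), (38, 89), (38, 94), (39, 27), (39, 28), (39, 29), (39, 33), (39, 53),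
  (39, 58), (39, 63), (39, 69), (39, 79), (39, 94), (39, 108), (39, 113), (44, 27), (44, 28), (44, 29),
  (44, 32), (44, 53), (44, 54), (44, 63), (44, 64), (44, 82), (44, 89), (44, 107), (44, 113), (58, 27),
  (58, 54), (58, 59), (58, 64), (58, 69), (59, 27), (59, 53), (59, 63), (69, 53), (69, 54), (82, 79),
  (82, 84), (82, 89), (82, 94), (84, 28), (89, 53), (107, 108), (107, 113), (194, 183), (194, 184),
  (214, 183)]

theorem ck3 : ∀ p ∈ P3, Perm.sign (sw2 p.1) = 1 ∧ Perm.sign (sw2 p.2) = 1 ∧ sw2 p.1 * sw2 p.1 * sw2 p.1 = 1 ∧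
    sw2 p.1 ≠ 1 := by (set_option synthInstance.maxSize 9000 in open scoped Cfsg.Agent.Lib.FastPerm in decide +kernel)

theorem ck2 : ∀ p ∈ P2, Perm.sign (sw2 p.1) = 1 ∧ Perm.sign (sw2 p.2) = 1 ∧ sw2 p.1 * sw2 p.1 = 1 := by
  (set_option synthInstance.maxSize 9000 in open scoped Cfsg.Agent.Lib.FastPerm in decide +kernel)

theorem al3 : ∀ y : Perm (Fin 5), Perm.sign y = 1 →
    ∃ p ∈ P3, sw2 p.1 * sw2 p.2 = y * (sw2 p.2 * sw2 p.1) := by (set_option synthInstance.maxSize 9000 in open scoped Cfsg.Agent.Lib.FastPerm in decide +kernel)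

theorem al2 : ∀ y : Perm (Fin 5), Perm.sign y = 1 →
    ∃ p ∈ P2, sw2 p.1 * sw2 p.2 = y * (sw2 p.2 * sw2 p.1) := by (set_option synthInstance.maxSize 9000 in open scoped Cfsg.Agent.Lib.FastPerm in decide +kernel)

theorem three (y : alternatingGroup (Fin 5)) :
    ∃ a b : alternatingGroup (Fin 5), a ^ 3 = 1 ∧ a ≠ 1 ∧ a * b * a⁻¹ * b⁻¹ = y := by
  obtain ⟨p, hp, h⟩ := al3 y (Perm.mem_alternatingGroup.1 y.2)
  obtain ⟨h1, h2, h3, h4⟩ := ck3 p hp
  refine ⟨⟨sw2 p.1, Perm.mem_alternatingGroup.2 h1⟩, ⟨sw2 p.2, Perm.mem_alternatingGroup.2 h2⟩, ?_, ?_, ?_⟩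
  · apply Subtype.ext
    rw [pow_three']
    exact h3
  · intro h5
    exact h4 (congrArg Subtype.val h5)
  · apply Subtype.ext
    change sw2 p.1 * sw2 p.2 * (sw2 p.1)⁻¹ * (sw2 p.2)⁻¹ = y
    rw [h]
    group

theorem two (y : alternatingGroup (Fin 5)) :
    ∃ a b : alternatingGroup (Fin 5), a * a = 1 ∧ a * b * a⁻¹ * b⁻¹ = y := by
  obtain ⟨p, hp, h⟩ := al2 y (Perm.mem_alternatingGroup.1 y.2)
  obtain ⟨h1, h2, h3⟩ := ck2 p hp
  refine ⟨⟨sw2 p.1, Perm.mem_alternatingGroup.2 h1⟩, ⟨sw2 p.2, Perm.mem_alternatingGroup.2 h2⟩, ?_, ?_⟩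
  · exact Subtype.ext h3
  · apply Subtype.ext
    change sw2 p.1 * sw2 p.2 * (sw2 p.1)⁻¹ * (sw2 p.2)⁻¹ = y
    rw [h]
    group

end Cfsg.Agent.H981.Ore.HNA5
end

-- part: H981/Ore/HNMM
section
/-!
# Ore, row HN: the derived subgroup of the centralizer of a 2-central involution (helper981)

`PP = C(W0)`, `ρ : PP → Lq = (A5 × A5).2` with kernel `2^(1+8)`, `LL = A5 × A5`.

* `es` : the kernel is extraspecial in the sense of `H6.ORE.ES`;
* `isC_MM` : every element of `MM` (preimage of `LL`) is a commutator.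
-/

set_option autoImplicit false

namespace Cfsg.Agent.H981.Ore.HNMM

open Cfsg.Agent.HN Cfsg.Agent.HN.Pres Cfsg.Agent.HN.P1408 Cfsg.Agent.HN.H0Basic Cfsg.Agent.HN.XMat
open Cfsg.Agent.HN.XStruct Cfsg.Agent.HN.XWords Cfsg.Agent.HN.XQuot Cfsg.Agent.HN.XInst
open Cfsg.Agent
open Cfsg.Agent.KFacts.HN
open Cfsg.Agent.CpAutHN.LqFacts Cfsg.Agent.CpAutHN.PPFacts
open Cfsg.Agent.H6.ORE (ES FPz)
open Cfsg.Agent.H777.Ore (IsC)

instance : Finite Cfsg.Spor.HN := finite_HN

/-- `W0` in `PP` -/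
def zP : PP := ⟨W0, W0_mem_PP⟩

theorem zP_sq : zP * zP = 1 := Subtype.ext W0_sq

theorem zP_comm (x : PP) : x * zP = zP * x := Subtype.ext (mem_PP.1 x.2)

theorem mul_r_sgn (m n : ℕ) (c d : Bool) :
    ∃ b : Bool, r Q m * sgn0 c * (r Q n * sgn0 d) = r Q (m ^^^ n) * sgn0 b := by
  obtain ⟨b, hb⟩ := r_mul (a := m) (b := n)
  have h1 := csg c (r Q n) (comm_r n)
  refine ⟨b ^^ (c ^^ d), ?_⟩
  calc r Q m * sgn0 c * (r Q n * sgn0 d) = r Q m * (sgn0 c * r Q n) * sgn0 d := by group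
    _ = r Q m * r Q n * (sgn0 c * sgn0 d) := by rw [← h1]; group
    _ = r Q (m ^^^ n) * (sgn0 b * sgn0 (c ^^ d)) := by rw [hb, sgn0_mul]; group
    _ = r Q (m ^^^ n) * sgn0 (b ^^ (c ^^ d)) := by rw [sgn0_mul]

theorem or_of_mask {x y : Cfsg.Spor.HN} {m : ℕ} {b c : Bool} (hx : x = r Q m * sgn0 b) (hy : y = r Q m * sgn0 c) :
    x = y ∨ x = y * W0 := by
  have h : ∀ b c : Bool, sgn0 b = sgn0 c ∨ sgn0 b = sgn0 c * W0 := by
    intro b c
    cases b <;> cases c
    · exact Or.inl rfl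
    · right
      change (1 : Cfsg.Spor.HN) = W0 * W0
      exact W0_sq.symm
    · right
      change W0 = 1 * W0
      exact (one_mul _).symm
    · exact Or.inl rfl
  rcases h b c with h | h
  · left; rw [hx, hy, h]
  · right; rw [hx, hy, h, mul_assoc]

theorem mem_ker_val {x : PP} (hx : x ∈ ρ.ker) : ∃ m < 256, ∃ c : Bool, (x : Cfsg.Spor.HN) = r Q m * sgn0 c :=
  mem_ker_iff.1 hx

theorem zP_mem : zP ∈ ρ.ker := mem_ker_iff.2 ⟨0, by norm_num, true, by
  rw [show r Q 0 = 1 from Bas.r_zero, one_mul]; rfl⟩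

theorem es : ES ρ.ker zP where
  normal := inferInstance
  mem := zP_mem
  ne := fun h => W0_ne (congrArg Subtype.val h)
  sq := zP_sq
  central := zP_comm
  comm := by
    intro x hx y hy
    obtain ⟨m, hm, c, h1⟩ := mem_ker_val hx
    obtain ⟨n, hn, d, h2⟩ := mem_ker_val hy
    obtain ⟨b, hb⟩ := mul_r_sgn m n c d
    obtain ⟨b', hb'⟩ := mul_r_sgn n m d c
    rw [Nat.xor_comm] at hb'
    have h3 : ((x * y : PP) : Cfsg.Spor.HN) = r Q (m ^^^ n) * sgn0 b := by rw [Subgroup.coe_mul, h1, h2, hb]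
    have h4 : ((y * x : PP) : Cfsg.Spor.HN) = r Q (m ^^^ n) * sgn0 b' := by rw [Subgroup.coe_mul, h1, h2, hb']
    rcases or_of_mask h3 h4 with h | h
    · exact Or.inl (Subtype.ext h)
    · exact Or.inr (Subtype.ext h)
  pow := by
    intro x hx
    obtain ⟨m, hm, c, h1⟩ := mem_ker_val hx
    obtain ⟨b, hb⟩ := mul_r_sgn m m c c
    rw [Nat.xor_self, show r Q 0 = 1 from Bas.r_zero, one_mul] at hb
    have h3 : ((x * x : PP) : Cfsg.Spor.HN) = sgn0 b := by rw [Subgroup.coe_mul, h1, hb]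
    rcases sgn0_cases b with h | h
    · exact Or.inl (Subtype.ext (h3.trans h))
    · exact Or.inr (Subtype.ext (h3.trans h))
  nd := by
    intro x hx h
    have h1 : ∀ y ∈ RS, (x : Cfsg.Spor.HN) * y = y * x := by
      intro y hy
      obtain ⟨u, hu, rfl⟩ := hy
      exact congrArg Subtype.val (h u hu)
    rcases cent_RS h1 with h2 | h2
    · exact Or.inl (Subtype.ext h2)
    · exact Or.inr (Subtype.ext h2)

instance : Finite ρ.ker := Nat.finite_of_card_ne_zero (by rw [card_ker]; norm_num)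

/-- the mask is fixed by an element commuting modulo `W0` -/
theorem app_eq_of {x v : PP} {w : List ℕ} (hw : ρ x = e w) {m : ℕ} (hm : m < 256) {c : Bool}
    (hv : (v : Cfsg.Spor.HN) = r Q m * sgn0 c) (h : x * v * x⁻¹ = v ∨ x * v * x⁻¹ = v * zP) : app (mw w) m = m := by
  obtain ⟨d, hd⟩ := r_conj x.2 (acts_of_ρ hw) m
  have h2 : (x : Cfsg.Spor.HN)⁻¹ * (r Q m * sgn0 c) * x = r Q (app (mw w) m) * sgn0 (d ^^ c) := by
    have h3 := csg c (x : Cfsg.Spor.HN) (mem_PP.1 x.2)
    calc (x : Cfsg.Spor.HN)⁻¹ * (r Q m * sgn0 c) * x = (x : Cfsg.Spor.HN)⁻¹ * r Q m * (sgn0 c * x) := by group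
      _ = (x : Cfsg.Spor.HN)⁻¹ * r Q m * x * sgn0 c := by rw [← h3]; group
      _ = r Q (app (mw w) m) * sgn0 (d ^^ c) := by rw [hd, mul_assoc, sgn0_mul]
  have h1 : ∃ b : Bool, (x : Cfsg.Spor.HN)⁻¹ * (r Q m * sgn0 c) * x = r Q m * sgn0 b := by
    rcases h with h | h
    · refine ⟨c, ?_⟩
      rw [← hv]
      have h4 : x⁻¹ * v * x = v := by
        calc x⁻¹ * v * x = x⁻¹ * (x * v * x⁻¹) * x := by rw [h]
          _ = v := by group
      exact congrArg Subtype.val h4
    · refine ⟨c ^^ true, ?_⟩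
      have h4 : x⁻¹ * v * x = v * zP := by
        calc x⁻¹ * v * x = x⁻¹ * (v * zP * zP) * x := by rw [mul_assoc v, zP_sq, mul_one]
          _ = x⁻¹ * (x * v * x⁻¹ * zP) * x := by rw [h]
          _ = v * (x⁻¹ * zP * x) := by group
          _ = v * zP := by rw [mul_assoc x⁻¹ zP x, ← zP_comm x, inv_mul_cancel_left]
      have h5 : (x : Cfsg.Spor.HN)⁻¹ * v * x = v * W0 := congrArg Subtype.val h4
      rw [← hv, h5, hv, mul_assoc, ← sgn0_mul]
      rfl
  obtain ⟨b, hb⟩ := h1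
  exact (r_sgn_inj (app_lt _ _) hm (h2.symm.trans hb)).1

/-- commuting modulo `zP` is inherited by powers -/
theorem or_pow {a v : PP} (h : a * v * a⁻¹ = v ∨ a * v * a⁻¹ = v * zP) (n : ℕ) :
    a ^ n * v * (a ^ n)⁻¹ = v ∨ a ^ n * v * (a ^ n)⁻¹ = v * zP := by
  induction n with
  | zero => left; simp
  | succ n ih =>
    have e1 : a ^ (n + 1) * v * (a ^ (n + 1))⁻¹ = a * (a ^ n * v * (a ^ n)⁻¹) * a⁻¹ := by
      rw [pow_succ']; group
    rw [e1]
    have e2 : a * (v * zP) * a⁻¹ = a * v * a⁻¹ * zP := by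
      calc a * (v * zP) * a⁻¹ = a * v * (zP * a⁻¹) := by group
        _ = a * v * (a⁻¹ * zP) := by rw [zP_comm a⁻¹]
        _ = a * v * a⁻¹ * zP := by group
    rcases ih with ih | ih
    · rw [ih]; exact h
    · rw [ih, e2]
      rcases h with h | h
      · right; rw [h]
      · left; rw [h, mul_assoc, zP_sq, mul_one]

/-- **elements without fixed points on `R/⟨W0⟩`** -/
theorem hfix {a : PP} {x y : A5} (ha : ρ a = φA x * φB y) (hx : x ^ 3 = 1) (hx1 : x ≠ 1) (hy : y * y = 1) :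
    ∀ v ∈ ρ.ker, (a * v * a⁻¹ = v ∨ a * v * a⁻¹ = v * zP) → v = 1 ∨ v = zP := by
  intro v hv h
  have h4 := or_pow h 4
  have hρ4 : ρ (a ^ 4) = φA x := by
    have hc : Commute (φA x) (φB y) := comm_AB x y
    rw [map_pow, ha, hc.mul_pow, ← map_pow, ← map_pow]
    have e1 : x ^ 4 = x := by rw [pow_succ, hx, one_mul]
    have e2 : y ^ 4 = 1 := by
      rw [show (4 : ℕ) = 2 * 2 from rfl, pow_mul, pow_two y, hy, one_pow]
    rw [e1, e2, map_one, mul_one]
  obtain ⟨g, hg⟩ := conj_c0 hx hx1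
  obtain ⟨u, hu⟩ := ρ_surj (φA g)
  obtain ⟨b, hb⟩ : ∃ b, b = u * a ^ 4 * u⁻¹ := ⟨_, rfl⟩
  obtain ⟨v', hv'⟩ : ∃ v', v' = u * v * u⁻¹ := ⟨_, rfl⟩
  have hρb : ρ b = e (aw 0) := by
    rw [hb, map_mul, map_mul, map_inv, hu, hρ4, ← map_mul, ← map_inv, ← map_mul, hg, φA_c0]
  have hvk : v' ∈ ρ.ker := by
    rw [hv']
    exact ρ.normal_ker.conj_mem v hv u
  obtain ⟨m, hm, c, hmc⟩ := mem_ker_val hvk
  have h5 : b * v' * b⁻¹ = v' ∨ b * v' * b⁻¹ = v' * zP := by
    have e1 : b * v' * b⁻¹ = u * (a ^ 4 * v * (a ^ 4)⁻¹) * u⁻¹ := by rw [hb, hv']; group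
    have e2 : u * (v * zP) * u⁻¹ = v' * zP := by
      calc u * (v * zP) * u⁻¹ = u * v * (zP * u⁻¹) := by group
        _ = u * v * (u⁻¹ * zP) := by rw [zP_comm u⁻¹]
        _ = v' * zP := by rw [hv']; group
    rw [e1]
    rcases h4 with h4 | h4
    · left; rw [h4, hv']
    · right; rw [h4, e2]
  have h6 := fix_A hm (app_eq_of hρb hm hmc h5)
  rw [h6, show r Q 0 = 1 from Bas.r_zero, one_mul] at hmc
  have h7 : v' = 1 ∨ v' = zP := by
    rcases sgn0_cases c with h | h
    · exact Or.inl (Subtype.ext (hmc.trans h))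
    · exact Or.inr (Subtype.ext (hmc.trans h))
  have e3 : v = u⁻¹ * v' * u := by rw [hv']; group
  rw [e3]
  rcases h7 with h | h
  · left; rw [h]; group
  · right; rw [h, mul_assoc, ← zP_comm u, ← mul_assoc, inv_mul_cancel, one_mul]

/-- an element acting trivially on `R/⟨W0⟩` is in `R` -/
theorem ρ_eq_one {c : PP} (h : ∀ x ∈ ρ.ker, c * x * c⁻¹ = x ∨ c * x * c⁻¹ = x * zP) : ρ c = 1 := by
  obtain ⟨w, hw⟩ := exists_word (ρ c)
  rw [hw, ← e_nil]
  apply e_eq
  apply pack_ext (mw_lt _) (mw_lt _)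
  intro i hi
  have h1 : (⟨r Q (2 ^ i), r_mem_PP _⟩ : PP) ∈ ρ.ker :=
    mem_ker_iff.2 ⟨2 ^ i, by
      calc 2 ^ i < 2 ^ 8 := Nat.pow_lt_pow_right (by norm_num) hi
        _ = 256 := by norm_num, false, (mul_one _).symm⟩
  have h2 := app_eq_of hw (m := 2 ^ i) (by
      calc 2 ^ i < 2 ^ 8 := Nat.pow_lt_pow_right (by norm_num) hi
        _ = 256 := by norm_num) (c := false) (v := ⟨r Q (2 ^ i), r_mem_PP _⟩) (mul_one _).symm (h _ h1)
  rw [app_pow _ hi] at h2
  rw [h2, mw_nil, row_MI hi]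

/-- `W0` is a commutator -/
theorem isC_W0 : IsC (W0 : Cfsg.Spor.HN) := by
  -- two elements of `R` which do not commute
  have h : ∃ x ∈ ρ.ker, ∃ y ∈ ρ.ker, x * y = y * x * zP := by
    by_contra hno
    push Not at hno
    have h1 : ∀ x ∈ ρ.ker, x = 1 ∨ x = zP := fun x hx =>
      es.nd x hx fun y hy => (es.comm x hx y hy).resolve_right (hno x hx y hy)
    have h2 : (⟨r Q 1, r_mem_PP _⟩ : PP) ∈ ρ.ker := mem_ker_iff.2 ⟨1, by norm_num, false, (mul_one _).symm⟩
    rcases h1 _ h2 with h3 | h3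
    · have h4 : r Q 1 * sgn0 false = r Q 0 * sgn0 false := by
        rw [show r Q 0 = 1 from Bas.r_zero, one_mul]
        have h5 : r Q 1 = (1 : Cfsg.Spor.HN) := congrArg Subtype.val h3
        rw [h5, one_mul]
      exact absurd (r_sgn_inj (by norm_num) (by norm_num) h4).1 (by norm_num)
    · have h4 : r Q 1 * sgn0 false = r Q 0 * sgn0 true := by
        rw [show r Q 0 = 1 from Bas.r_zero, one_mul]
        have h5 : r Q 1 = W0 := congrArg Subtype.val h3
        rw [h5]
        exact mul_one _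
      exact absurd (r_sgn_inj (by norm_num) (by norm_num) h4).1 (by norm_num)
  obtain ⟨x, -, y, -, hxy⟩ := h
  have h2 : zP = (x⁻¹ * y⁻¹) * (x * y) := by
    rw [hxy, ← mul_assoc]
    have : x⁻¹ * y⁻¹ * (y * x) = 1 := by group
    rw [this, one_mul]
  have h3 : IsC zP := ⟨x⁻¹, y⁻¹, by rw [h2]; group⟩
  exact IsC.of_sub PP W0_mem_PP h3

/-- **every element of the derived subgroup of `C(W0)` is a commutator** -/
theorem isC_MM {g : Cfsg.Spor.HN} (hg : g ∈ MM) : IsC g := by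
  obtain ⟨hgP, hL⟩ := mem_MM.1 hg
  obtain ⟨y1, y2, hy⟩ := mem_LL.1 hL
  by_cases h1 : ρ ⟨g, hgP⟩ = 1
  · -- elements of `R`
    by_cases h2 : (⟨g, hgP⟩ : PP) = 1 ∨ (⟨g, hgP⟩ : PP) = zP
    · rcases h2 with h2 | h2
      · have : g = 1 := congrArg Subtype.val h2
        rw [this]
        exact H777.Ore.isC_one
      · have : g = W0 := congrArg Subtype.val h2
        rw [this]
        exact isC_W0
    · obtain ⟨a, ha⟩ := ρ_surj (φA c0)
      have hfx := hfix (a := a) (x := c0) (y := 1) (by rw [ha, map_one, mul_one]) c0_cube c0_ne (one_mul _)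
      exact IsC.of_sub PP hgP (es.isComm_of_mem hfx h1 h2)
  · obtain ⟨a1, b1, ha3, ha1, hab1⟩ := HNA5.three y1
    obtain ⟨a2, b2, ha2, hab2⟩ := HNA5.two y2
    obtain ⟨a, ha⟩ := ρ_surj (φA a1 * φB a2)
    obtain ⟨b, hb⟩ := ρ_surj (φA b1 * φB b2)
    have hfp : FPz ρ.ker zP a b := FPz.of_left es b (hfix ha ha3 ha1 ha2)
    have hc : ρ ⟨g, hgP⟩ = ρ a * ρ b * (ρ a)⁻¹ * (ρ b)⁻¹ := by
      rw [← hy, ← hab1, ← hab2, ha, hb]
      have hab : ∀ s t : A5, φA s * φB t = φB t * φA s := comm_AB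
      simp only [map_mul, map_inv, mul_inv_rev]
      have e1 : ∀ s t : A5, Commute (φA s) (φB t) := comm_AB
      have c1 : Commute (φA a1 * φA b1 * (φA a1)⁻¹ * (φA b1)⁻¹) (φB a2) :=
        (((e1 _ _).mul_left (e1 _ _)).mul_left (e1 _ _).inv_left).mul_left (e1 _ _).inv_left
      calc φA a1 * φA b1 * (φA a1)⁻¹ * (φA b1)⁻¹ * (φB a2 * φB b2 * (φB a2)⁻¹ * (φB b2)⁻¹)
          = φA a1 * φA b1 * (φA a1)⁻¹ * (φA b1)⁻¹ * φB a2 * φB b2 * (φB a2)⁻¹ * (φB b2)⁻¹ := by group
        _ = φB a2 * (φA a1 * φA b1 * (φA a1)⁻¹ * (φA b1)⁻¹) * φB b2 * (φB a2)⁻¹ * (φB b2)⁻¹ := by rw [c1.eq]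
        _ = (φB a2 * φA a1) * φA b1 * (φA a1)⁻¹ * ((φA b1)⁻¹ * φB b2) * (φB a2)⁻¹ * (φB b2)⁻¹ := by group
        _ = (φA a1 * φB a2) * φA b1 * (φA a1)⁻¹ * (φB b2 * (φA b1)⁻¹) * (φB a2)⁻¹ * (φB b2)⁻¹ := by
            rw [← hab a1 a2, ((e1 b1 b2).inv_left).eq]
        _ = (φA a1 * φB a2) * φA b1 * ((φA a1)⁻¹ * φB b2) * ((φA b1)⁻¹ * (φB a2)⁻¹) * (φB b2)⁻¹ := by group
        _ = (φA a1 * φB a2) * φA b1 * (φB b2 * (φA a1)⁻¹) * ((φB a2)⁻¹ * (φA b1)⁻¹) * (φB b2)⁻¹ := by
            rw [((e1 a1 b2).inv_left).eq, ((e1 b1 a2).inv_left.inv_right).eq]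
        _ = (φA a1 * φB a2) * (φA b1 * φB b2) * ((φA a1)⁻¹ * (φB a2)⁻¹) * ((φA b1)⁻¹ * (φB b2)⁻¹) := by group
        _ = (φA a1 * φB a2) * (φA b1 * φB b2) * ((φB a2)⁻¹ * (φA a1)⁻¹) * ((φB b2)⁻¹ * (φA b1)⁻¹) := by
            rw [((e1 a1 a2).inv_left.inv_right).eq, ((e1 b1 b2).inv_left.inv_right).eq]
    have hact : ∃ x ∈ ρ.ker, ¬ ((⟨g, hgP⟩ : PP) * x * (⟨g, hgP⟩ : PP)⁻¹ = x ∨
        (⟨g, hgP⟩ : PP) * x * (⟨g, hgP⟩ : PP)⁻¹ = x * zP) := by
      by_contra hno
      push Not at hno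
      exact h1 (ρ_eq_one hno)
    obtain ⟨a', b', -, -, h⟩ := es.lift ρ hfp hc hact
    exact IsC.of_sub PP hgP ⟨a', b', h⟩

end Cfsg.Agent.H981.Ore.HNMM
end

-- part: H981/Ore/HNPP
section
/-!
# Ore, row HN: centralizers of the elements of `C(W0)` outside the derived subgroup (helper981)

`card_le` : `ρ g ∉ LL` : `|C(W0) ∩ C(g)| ≤ 3840`.
-/

set_option autoImplicit false

namespace Cfsg.Agent.H981.Ore.HNPP

open Cfsg.Agent.HN Cfsg.Agent.HN.Pres Cfsg.Agent.HN.P1408 Cfsg.Agent.HN.H0Basic Cfsg.Agent.HN.XMat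
open Cfsg.Agent.HN.XStruct Cfsg.Agent.HN.XWords Cfsg.Agent.HN.XQuot Cfsg.Agent.HN.XInst
open Cfsg.Agent
open Cfsg.Agent.KFacts.HN
open Cfsg.Agent.CpAutHN.LqFacts Cfsg.Agent.CpAutHN.PPFacts
open Cfsg.Agent.SporadicA.PermTab (band_eq_true allB allB_iff)
open Cfsg.Agent.Lib.AltCarmichael (cyc cyc_mem)

/-- the matrices of the first factor -/
def AL : List ℕ := [
  869204967866376971, 1018100084898052197, 2110954854489269274, 2195402006513706739, 3206195737607452500,
  3275106233126350547, 3605431080059621799, 3676100278761031712, 3863608803359529766, 3936840431962479055,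
  4072225076573921706, 4229582447411133124, 4803691457854188073, 4874885063262958510, 5044387939084509761,
  5197225131692333604, 5672893676852087074, 5744090031107821733, 6294575477402346832, 6374535643838039218,
  7116981224729656950, 8059649111492904186, 8191487332063257097, 8361025538420044774, 8432257618279508577,
  8802655799434955651, 8873323829897007620, 9060691612712042754, 9241421688590303745, 9648529173354173422,
  10110626519017201930, 10259521773487831652, 10456152176204055824, 10604493827124797054, 11070087190244732531,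
  11316347745792173595, 11611311749839704025, 11750638504370590903, 12220733234793833658, 12610833386763155388,
  12917451460899244577, 13029857521786568864, 13647319778009068100, 13786654229675256106, 14285809490235334720,
  14514346671122039202, 14578553704653226827, 14914244858990299939, 15185193610388141758, 15287133742332798392,
  15499968368705251153, 15783703047405405274, 16264895844144348830, 16322373978593606775, 16655136737896852888,
  17052242295765730322, 17432908883214082056, 18114675149474172933, 18226941636817672836, 18432994569598441581]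

theorem AL_one : MI ∈ AL := by decide +kernel

theorem AL_mul : ∀ P ∈ AL, ∀ i < 3, mul P (mw (aw i)) ∈ AL := by decide +kernel

/-- number of fixed masks -/
def cntF (P : ℕ) : ℕ := ((List.range 256).filter fun m => Nat.beq (app P m) m).length

theorem AL_cnt : AL.all (fun P => Nat.ble (cntF (mul P MC)) 16) = true := by decide +kernel

/-- the matrices of the elements of the first factor -/
def GA (a : A5) : Prop := ∃ w, φA a = e w ∧ mw w ∈ AL

theorem GA_one : GA 1 := ⟨[], by rw [map_one]; rfl, AL_one⟩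

theorem GA_step {a : A5} (h : GA a) {i : ℕ} (hi : i < 3) : GA (a * ⟨cyc 3 i, cyc_mem 3 i hi⟩) := by
  obtain ⟨w, h1, h2⟩ := h
  obtain ⟨v, hv⟩ := exists_word (φA (a * ⟨cyc 3 i, cyc_mem 3 i hi⟩))
  refine ⟨w ++ aw i, by rw [map_mul, h1, φA_cyc hi, e_append], ?_⟩
  have h3 : mw (w ++ aw i) = mul (mw w) (mw (aw i)) := by
    apply pack_ext (mw_lt _) (mul_lt _ _)
    intro j hj
    rw [← app_pow _ hj, ← app_pow _ hj, app_mul]
    have h4 : ∀ (w : List ℕ) (m : ℕ), m < 256 → app (mw (w ++ aw i)) m = app (mw (aw i)) (app (mw w) m) := by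
      intro w
      induction w with
      | nil =>
        intro m hm
        rw [List.nil_append, mw_nil, app_MI hm]
      | cons g w ih =>
        intro m hm
        rw [List.cons_append, mw_cons, mw_cons, app_mul, app_mul, ih _ (app_lt _ _)]
    exact h4 w _ (by
      calc 2 ^ j < 2 ^ 8 := Nat.pow_lt_pow_right (by norm_num) hj
        _ = 256 := by norm_num)
  rw [h3]
  exact AL_mul _ h2 i hi

theorem cyc_cube {i : ℕ} (hi : i < 3) (a : A5) :
    a * ⟨cyc 3 i, cyc_mem 3 i hi⟩ * ⟨cyc 3 i, cyc_mem 3 i hi⟩ * ⟨cyc 3 i, cyc_mem 3 i hi⟩ = a := by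
  have h : (⟨cyc 3 i, cyc_mem 3 i hi⟩ : A5) ^ 3 = 1 := by
    apply φA_inj
    rw [map_pow, φA_cyc hi, map_one]
    exact rel_a.cube i hi
  rw [mul_assoc, mul_assoc, ← pow_three, h, mul_one]

theorem GA_all (a : A5) : GA a := by
  have h : ∀ t : A5, ∀ a, GA a ↔ GA (a * t) := by
    let T : Subgroup A5 :=
      { carrier := {t | ∀ a, GA a ↔ GA (a * t)}
        one_mem' := fun a => by rw [mul_one]
        mul_mem' := fun {s t} hs ht a => by rw [← mul_assoc]; exact (hs a).trans (ht _)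
        inv_mem' := fun {t} ht a => by
          have := ht (a * t⁻¹)
          rw [inv_mul_cancel_right] at this
          exact this.symm }
    have hT : T = ⊤ := top_of_gens fun i hi => by
      intro a
      refine ⟨fun h => GA_step h hi, fun h => ?_⟩
      have := GA_step (GA_step h hi) hi
      rwa [cyc_cube hi] at this
    intro t
    exact (hT ▸ Subgroup.mem_top t : t ∈ T)
  have := (h a 1).1 GA_one
  rwa [one_mul] at this

/-- an element outside `LL` is conjugate to `φA a * e [1]` -/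
theorem exists_conj {y : Lq} (hy : y ∉ LL) : ∃ (g : Lq) (a : A5), g * y * g⁻¹ = φA a * e [1] := by
  rcases LL_or y with h | ⟨z, hz, rfl⟩
  · exact absurd h hy
  obtain ⟨a, b, rfl⟩ := mem_LL.1 hz
  refine ⟨φB b⁻¹, a * b, ?_⟩
  have h1 : φB b⁻¹ * (φA a * φB b * e [1]) * (φB b⁻¹)⁻¹ =
      φB b⁻¹ * φA a * φB b * (e [1] * φB b * (e [1])⁻¹) * e [1] := by
    rw [map_inv]; group
  rw [h1, e1_A, ← comm_AB a b⁻¹]
  calc φA a * φB b⁻¹ * φB b * φA b * e [1] = φA a * (φB b⁻¹ * φB b) * φA b * e [1] := by group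
    _ = φA (a * b) * e [1] := by rw [← map_mul, inv_mul_cancel, map_one, mul_one, ← map_mul]

/-- the number of fixed masks -/
theorem exists_list {x : PP} {a : A5} (hx : ρ x = φA a * e [1]) : ∃ L : List ℕ, L.length ≤ 16 ∧
    ∀ (v : PP) (m : ℕ) (_ : m < 256) (c : Bool), (v : Cfsg.Spor.HN) = r Q m * sgn0 c → v * x = x * v → m ∈ L := by
  obtain ⟨w, hw, hA⟩ := GA_all a
  have hρ : ρ x = e (w ++ [1]) := by rw [hx, hw, e_append]
  have h1 : mw (w ++ [1]) = mul (mw w) MC := by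
    apply pack_ext (mw_lt _) (mul_lt _ _)
    intro j hj
    rw [← app_pow _ hj, ← app_pow _ hj, app_mul]
    have h4 : ∀ (w : List ℕ) (m : ℕ), m < 256 → app (mw (w ++ [1])) m = app MC (app (mw w) m) := by
      intro w
      induction w with
      | nil =>
        intro m hm
        rw [List.nil_append, mw_cons, mw_nil, app_MI hm, app_mul, app_MI (app_lt _ _)]
        rfl
      | cons g w ih =>
        intro m hm
        rw [List.cons_append, mw_cons, mw_cons, app_mul, app_mul, ih _ (app_lt _ _)]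
    exact h4 w _ (by
      calc 2 ^ j < 2 ^ 8 := Nat.pow_lt_pow_right (by norm_num) hj
        _ = 256 := by norm_num)
  refine ⟨(List.range 256).filter fun m => Nat.beq (app (mul (mw w) MC) m) m, ?_, ?_⟩
  · exact Nat.le_of_ble_eq_true (List.all_eq_true.1 AL_cnt _ hA)
  · intro v m hm c hv hc
    have h2 := app_eq_of_comm hρ hm hv hc
    rw [h1] at h2
    exact List.mem_filter.2 ⟨List.mem_range.2 hm, by
      show Nat.beq _ _ = true
      rw [h2, Nat.beq_refl]⟩

theorem card_ker_le' {x : PP} {a : A5} (hx : ρ x = φA a * e [1]) : Nat.card ↥(CP x ⊓ ρ.ker) ≤ 32 := by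
  classical
  obtain ⟨L, hL, hm⟩ := exists_list hx
  have h0 : ∀ v : ↥(CP x ⊓ ρ.ker), ∃ y : Fin L.length × Bool, ((v : PP) : Cfsg.Spor.HN) =
      r Q (L.get y.1) * sgn0 y.2 := by
    rintro ⟨v, hv1, hv2⟩
    obtain ⟨m, hm', c, hvm⟩ := mem_ker_iff.1 hv2
    have h1 : v * x = x * v := Subgroup.mem_centralizer_singleton_iff.1 hv1
    obtain ⟨i, hi⟩ := List.get_of_mem (hm v m hm' c hvm h1)
    refine ⟨(i, c), ?_⟩
    change (v : Cfsg.Spor.HN) = _
    rw [hvm, hi]
  choose f hf using h0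
  have hinj : Function.Injective f := by
    intro u v huv
    apply Subtype.ext
    apply Subtype.ext
    rw [hf u, hf v, huv]
  have h2 := Nat.card_le_card_of_injective f hinj
  rw [Nat.card_prod, Nat.card_eq_fintype_card (α := Fin _), Nat.card_eq_fintype_card (α := Bool), Fintype.card_fin,
    Fintype.card_bool] at h2
  omega

instance : Finite Lq := Nat.finite_of_card_ne_zero (by rw [card_Lq]; norm_num)

/-- the centralizers in `Lq` -/
theorem card_J_le {J : Subgroup Lq} {y : Lq} (hy : y ∉ LL) (hJ : ∀ z ∈ J, z * y = y * z) : Nat.card ↥J ≤ 120 := by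
  classical
  rcases LL_or y with h | ⟨t, ht, hyt⟩
  · exact absurd h hy
  obtain ⟨s, s', rfl⟩ := mem_LL.1 ht
  have key : ∀ b : A5, φB b * y = y * φB b → b = 1 := by
    intro b hb
    have h1 : y * φB b * y⁻¹ = φA (s * b * s⁻¹) := by
      rw [hyt, ← conj_A s s' b, ← e1_A b]
      group
    have h2 : y * φB b * y⁻¹ = φB b := by rw [← hb]; group
    rw [h2] at h1
    exact (A_inter_B h1.symm).2
  have h0 : ∀ z : ↥(J ⊓ LL), ∃ a b : A5, φA a * φB b = (z : Lq) := fun z => mem_LL.1 z.2.2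
  choose f g hfg using h0
  have hinj : Function.Injective f := by
    intro u v huv
    apply Subtype.ext
    have h1 : (u : Lq)⁻¹ * v = φB ((g u)⁻¹ * g v) := by
      rw [← hfg u, ← hfg v, huv, map_mul, map_inv]
      group
    have h2 : (u : Lq)⁻¹ * v ∈ J := J.mul_mem (J.inv_mem u.2.1) v.2.1
    have h3 := hJ _ h2
    rw [h1] at h3
    have h4 := key _ h3
    rw [h4, map_one] at h1
    exact inv_mul_eq_one.1 h1
  have h1 : Nat.card ↥(J ⊓ LL) ≤ 60 := by
    rw [← card_A5]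
    exact Nat.card_le_card_of_injective f hinj
  have h2 : LL.relIndex J ∣ 2 := by
    rw [← index_LL]
    exact Subgroup.relIndex_dvd_index_of_normal LL J
  have h3 : Nat.card ↥(J ⊓ LL) * LL.relIndex J = Nat.card ↥J := by
    rw [← Subgroup.relIndex_bot_left, ← Subgroup.relIndex_bot_left, inf_comm, ← Subgroup.inf_relIndex_right LL J]
    exact Subgroup.relIndex_mul_relIndex _ _ _ bot_le inf_le_right
  have h4 := Nat.le_of_dvd (by norm_num) h2
  rw [← h3]
  calc Nat.card ↥(J ⊓ LL) * LL.relIndex J ≤ 60 * 2 := Nat.mul_le_mul h1 h4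
    _ = 120 := by norm_num

theorem card_le' {x : PP} {a : A5} (hx : ρ x = φA a * e [1]) : Nat.card ↥(CP x) ≤ 3840 := by
  let f : ↥(CP x) →* Lq := ρ.comp (CP x).subtype
  have hnot : φA a * e [1] ∉ LL := fun h => e1_notMem (by
    have := LL.mul_mem (LL.inv_mem (A_mem a)) h
    rwa [inv_mul_cancel_left] at this)
  have h1 : Nat.card ↥f.ker ≤ 32 := by
    have h2 : Nat.card ↥f.ker = Nat.card ↥(CP x ⊓ ρ.ker) := by
      refine Nat.card_congr
        { toFun := fun v => ⟨(v : ↥(CP x)), (v : ↥(CP x)).2, v.2⟩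
          invFun := fun v => ⟨⟨(v : PP), v.2.1⟩, v.2.2⟩
          left_inv := fun _ => rfl
          right_inv := fun _ => rfl }
    rw [h2]
    exact card_ker_le' hx
  have h2 : Nat.card ↥f.range ≤ 120 := by
    apply card_J_le hnot
    rintro _ ⟨v, rfl⟩
    have h3 : (v : PP) * x = x * v := Subgroup.mem_centralizer_singleton_iff.1 v.2
    change ρ (v : PP) * _ = _ * ρ (v : PP)
    rw [← hx, ← map_mul, h3, map_mul]
  have h3 : Nat.card ↥(CP x) = Nat.card ↥f.ker * Nat.card ↥f.range := by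
    rw [← f.ker.card_mul_index, Subgroup.index_ker]
  rw [h3]
  calc Nat.card ↥f.ker * Nat.card ↥f.range ≤ 32 * 120 := Nat.mul_le_mul h1 h2
    _ = 3840 := by norm_num

/-- the order of the centralizer is invariant under conjugation -/
theorem card_cent_conj {G : Type*} [Group G] (g x : G) : Nat.card (Subgroup.centralizer ({g * x * g⁻¹} : Set G)) =
    Nat.card (Subgroup.centralizer ({x} : Set G)) := by
  refine Nat.card_congr
    { toFun := fun v => ⟨g⁻¹ * v * g, ?_⟩
      invFun := fun v => ⟨g * v * g⁻¹, ?_⟩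
      left_inv := fun v => Subtype.ext (by group)
      right_inv := fun v => Subtype.ext (by group) }
  · rw [Subgroup.mem_centralizer_singleton_iff]
    have h : (v : G) * (g * x * g⁻¹) = g * x * g⁻¹ * v := Subgroup.mem_centralizer_singleton_iff.1 v.2
    calc g⁻¹ * (v : G) * g * x = g⁻¹ * (v * (g * x * g⁻¹)) * g := by group
      _ = x * (g⁻¹ * v * g) := by rw [h]; group
  · rw [Subgroup.mem_centralizer_singleton_iff]
    have h : (v : G) * x = x * v := Subgroup.mem_centralizer_singleton_iff.1 v.2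
    calc g * (v : G) * g⁻¹ * (g * x * g⁻¹) = g * (v * x) * g⁻¹ := by group
      _ = g * x * g⁻¹ * (g * v * g⁻¹) := by rw [h]; group

/-- **centralizers outside the derived subgroup** -/
theorem card_le {x : PP} (hx : ρ x ∉ LL) : Nat.card (Subgroup.centralizer ({x} : Set PP)) ≤ 3840 := by
  obtain ⟨g, a, h⟩ := exists_conj hx
  obtain ⟨u, rfl⟩ := ρ_surj g
  rw [← card_cent_conj u x]
  exact card_le' (a := a) (by rw [map_mul, map_mul, map_inv, h])

/-- **an element with `W0` among its powers, outside `MM`** -/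
theorem card_le_of_pow {g : Cfsg.Spor.HN} {n : ℕ} (hn : g ^ n = W0) (hg : g ∉ MM) :
    Nat.card (Subgroup.centralizer ({g} : Set Cfsg.Spor.HN)) ≤ 3840 := by
  have hgP : g ∈ PP := mem_PP.2 (by rw [← hn]; exact (Commute.refl g).pow_right n)
  have hρ : ρ ⟨g, hgP⟩ ∉ LL := fun h => hg (mem_MM.2 ⟨hgP, h⟩)
  refine le_trans (le_of_eq ?_) (card_le hρ)
  have hle : Subgroup.centralizer ({g} : Set Cfsg.Spor.HN) ≤ PP := by
    intro v hv
    rw [Subgroup.mem_centralizer_singleton_iff] at hv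
    rw [mem_PP, ← hn]
    exact ((show Commute v g from hv).pow_right n).eq
  refine Nat.card_congr
    { toFun := fun v => ⟨⟨v, hle v.2⟩, ?_⟩
      invFun := fun v => ⟨(v : PP), ?_⟩
      left_inv := fun _ => rfl
      right_inv := fun _ => rfl }
  · rw [Subgroup.mem_centralizer_singleton_iff]
    exact Subtype.ext (Subgroup.mem_centralizer_singleton_iff.1 v.2)
  · rw [Subgroup.mem_centralizer_singleton_iff]
    exact congrArg Subtype.val (Subgroup.mem_centralizer_singleton_iff.1 v.2)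

end Cfsg.Agent.H981.Ore.HNPP
end
end

-- part: H253/Ore/HNTwentyFive
section
prune_inst 0x7f00000000000000000000000000000000000000000000000000000000000000000000000000000000000000000000000000000000000000000000000000000000000000000000000000000000000000003fffffffffffffffffffffffffffbeffbdffffffff
set_option linter.all false
open scoped Cfsg.Agent.FastGrp

-- part: H789/MS/HN25A
section
/-!
# The check for the elements of order 25 of HN, piece A (41 products)
-/

set_option autoImplicit false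
set_option maxRecDepth 100000

namespace Cfsg.Agent.H789.MS.HN25A

open Cfsg.Agent.Lib.PackMat Cfsg.Agent.Lib.PackMatGroup Cfsg.Agent.Lib.PackMatMul Cfsg.Agent.HN.RepData
open Cfsg.Agent.H789.MS.Cut Cfsg.Agent.H789.MS.HN25Data

/-- the steps -/
def ws : List (ℕ × List ℕ) := [
  (0, [4, 3, 4, 1, 3, 4, 0, 3, 2, 4, 2, 1, 4, 3, 3, 1, 2, 4, 0, 3, 4, 2, 4]),
  (2, [5, 4, 5, 5, 4, 1, 4, 4, 5, 1, 1]), (1, [1]), (0, [0]), (2, [2]), (0, [0]), (2, [0, 5, 4])]

/-- their places in the complete list of results -/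
def ps : List ℕ := [124, 123, 122, 121, 120, 119, 118]

/-- the places of the inputs -/
def cur : List ℕ := [126, 127, 128, 129, 130, 131, 132, 133]

/-- the packed matrices of the inputs -/
def Li : List ℕ := [X, XI, Y, YI, Z, Z, T, TI]

/-- the packed matrices of the results -/
def os : List (ℕ × ℕ) := [(6, M9), (1, M14), (0, M15)]

set_option Elab.async false in
theorem chk : checkT C ws os Li = true := by (rewrite [show @Cfsg.Agent.H789.MS.Cut.checkT = delta% @Cfsg.Agent.H789.MS.Cut.checkT from by delta Cfsg.Agent.H789.MS.Cut.checkT; rfl, Cfsg.Agent.Lib.PackCol.withM_col]; decide +kernel)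

end Cfsg.Agent.H789.MS.HN25A
end

-- part: H789/MS/HN25D
section
/-!
# The check for the elements of order 25 of HN, piece D (26 products)
-/

set_option autoImplicit false
set_option maxRecDepth 100000

namespace Cfsg.Agent.H789.MS.HN25D

open Cfsg.Agent.Lib.PackMat Cfsg.Agent.Lib.PackMatGroup Cfsg.Agent.Lib.PackMatMul Cfsg.Agent.HN.RepData
open Cfsg.Agent.H789.MS.Cut Cfsg.Agent.H789.MS.HN25Data

/-- the steps -/
def ws : List (ℕ × List ℕ) := [
  (4, [2, 2, 5]), (7, [7]), (0, [0]), (0, [3, 3, 3]), (0, [3]), (1, [0]), (2, [0]), (3, [0]), (11, [15]),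
  (12, [0]), (13, [0]), (14, [0]), (3, [7, 3]), (3, [7, 3]), (3, [7, 3]), (3, [7, 3]), (17, [15, 17])]

/-- their places in the complete list of results -/
def ps : List ℕ := [16, 15, 14, 13, 12, 11, 10, 9, 8, 7, 6, 5, 4, 3, 2, 1, 0]

/-- the places of the inputs -/
def cur : List ℕ := [124, 118, 105, 101, 87, 86, 85, 83]

/-- the packed matrices of the inputs -/
def Li : List ℕ := [M9, M15, M28, M32, M46, M47, M48, M50]

/-- the equalities -/
def es : List (ℕ × ℕ) := [(0, 16), (1, 9), (2, 10), (3, 11), (4, 12)]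

set_option Elab.async false in
theorem chk : checkS C ws es [] Li = true := by (rewrite [show @Cfsg.Agent.Lib.PackMatMul.checkS = delta% @Cfsg.Agent.Lib.PackMatMul.checkS from by delta Cfsg.Agent.Lib.PackMatMul.checkS; rfl, Cfsg.Agent.Lib.PackCol.withM_col]; decide +kernel)

end Cfsg.Agent.H789.MS.HN25D
end

-- part: H253/Ore/HNTwentyFive
section
/-!
# The `5`-elements of the Harada-Norton group are real (ORE, row HN)

`n = G k² G⁻¹` inverts `W` and, after multiplication with `(A⁴ D³)^u`, the element `C₁^u F` of order 25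
(`u = 1, .., 4`); these relations are checked in the 133-dimensional representation.
-/

set_option autoImplicit false
set_option maxRecDepth 100000

namespace Cfsg.Agent.H253.Ore.HN25

open Subgroup Cfsg Cfsg.Agent.H839.Rad.Ext Cfsg.Agent.H285.ExtReal Cfsg.Agent.H981.InvHN Cfsg.Agent.H497.Stein
open Cfsg.Agent.H839.Rad.HN (W A B C₁ D F τ k G Gi ext e_fa1 e_fb1 e_fa2 e_fb2 FW prog R evF runG_getD runG_step)
open Cfsg.Agent.H285.HN5
open Cfsg.Agent.Lib.PackMat Cfsg.Agent.Lib.PackMatGroup Cfsg.Agent.Lib.PackMatMul Cfsg.Agent.HN.RepData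
open Cfsg.Agent.HN.Rep (L LG gens rho)
open Cfsg.Agent.HN

/-- the further steps -/
def extra : List (ℕ × List ℕ) := [
  (70, [88, 88, 69]),
  (69, [69]),
  (0, [0]),
  (0, [110, 110, 110]),
  (0, [3]),
  (1, [0]),
  (2, [0]),
  (3, [0]),
  (92, [74]),
  (93, [0]),
  (94, [0]),
  (95, [0]),
  (3, [7, 3]),
  (3, [7, 3]),
  (3, [7, 3]),
  (3, [7, 3]),
  (117, [15, 117])]

/-- the equalities -/
def es' : List (ℕ × ℕ) := [(0, 16), (1, 9), (2, 10), (3, 11), (4, 12)]

/-- entry of the complete list of results in the matrix group -/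
noncomputable def fl (i : ℕ) : U C := (runG (prog ++ extra) LG).getD i 1

theorem code_gen {j : ℕ} (hj : j < 8) : CodesR C (fl (126 + j)) (get L j) := by
  have h1 : fl (126 + j) = LG.getD j 1 := H789.MS.Cut.runG_getD (prog ++ extra) LG j
  rw [h1]
  exact codesR_get A12Group.codesR hj

theorem code_of {os : List (ℕ × ℕ)} {l : List ℕ}
    (h : ∀ q ∈ os, CodesR C ((runG (prog ++ extra) LG).getD (l.getD q.1 0) 1) q.2) (i : ℕ) {j M : ℕ}
    (hm : (i, M) ∈ os) (hf : l.getD i 0 = j) : CodesR C (fl j) M := by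
  subst hf
  exact h (i, M) hm

theorem code0 : CodesR C (fl 126) X := code_gen (j := 0) (by decide)
theorem code1 : CodesR C (fl 127) XI := code_gen (j := 1) (by decide)
theorem code2 : CodesR C (fl 128) Y := code_gen (j := 2) (by decide)
theorem code3 : CodesR C (fl 129) YI := code_gen (j := 3) (by decide)
theorem code4 : CodesR C (fl 130) Z := code_gen (j := 4) (by decide)
theorem code5 : CodesR C (fl 131) Z := code_gen (j := 5) (by decide)
theorem code6 : CodesR C (fl 132) T := code_gen (j := 6) (by decide)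
theorem code7 : CodesR C (fl 133) TI := code_gen (j := 7) (by decide)

theorem pieceA : ∀ q ∈ H789.MS.HN25A.os, CodesR C ((runG (prog ++ extra) LG).getD
    ((H789.MS.HN25A.ps.reverse ++ H789.MS.HN25A.cur).getD q.1 0) 1) q.2 := by
  have h : List.Forall₂ (CodesR C) (H789.MS.HN25A.cur.map fl) H789.MS.HN25A.Li := (.cons code0 (.cons code1 (.cons code2 (.cons code3 (.cons code4 (.cons code5 (.cons code6 (.cons code7 .nil))))))))
  exact H789.MS.Cut.piece_sound (good_of_check Rep.good) h (by decide +kernel) H789.MS.HN25A.chk (by decide)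

theorem code9 : CodesR C (fl 124) H789.MS.HN25Data.M9 :=
  code_of pieceA 6 (List.Mem.head _) (by decide)
theorem code14 : CodesR C (fl 119) H789.MS.HN25Data.M14 :=
  code_of pieceA 1 (List.Mem.tail _ (List.Mem.head _)) (by decide)
theorem code15 : CodesR C (fl 118) H789.MS.HN25Data.M15 :=
  code_of pieceA 0 (List.Mem.tail _ (List.Mem.tail _ (List.Mem.head _))) (by decide)

theorem pieceB : ∀ q ∈ H789.MS.HN25B.os, CodesR C ((runG (prog ++ extra) LG).getD
    ((H789.MS.HN25B.ps.reverse ++ H789.MS.HN25B.cur).getD q.1 0) 1) q.2 := by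
  have h : List.Forall₂ (CodesR C) (H789.MS.HN25B.cur.map fl) H789.MS.HN25B.Li := (.cons code0 (.cons code1 (.cons code2 (.cons code3 (.cons code4 (.cons code5 (.cons code6 (.cons code7 (.cons code9 (.cons code14 (.cons code15 .nil)))))))))))
  exact H789.MS.Cut.piece_sound (good_of_check Rep.good) h (by decide +kernel) H789.MS.HN25B.chk (by decide)

theorem code16 : CodesR C (fl 117) H789.MS.HN25Data.M16 :=
  code_of pieceB 15 (List.Mem.head _) (by decide)
theorem code28 : CodesR C (fl 105) H789.MS.HN25Data.M28 :=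
  code_of pieceB 3 (List.Mem.tail _ (List.Mem.head _)) (by decide)
theorem code32 : CodesR C (fl 101) H789.MS.HN25Data.M32 :=
  code_of pieceB 0 (List.Mem.tail _ (List.Mem.tail _ (List.Mem.head _))) (by decide)

theorem pieceC : ∀ q ∈ H789.MS.HN25C.os, CodesR C ((runG (prog ++ extra) LG).getD
    ((H789.MS.HN25C.ps.reverse ++ H789.MS.HN25C.cur).getD q.1 0) 1) q.2 := by
  have h : List.Forall₂ (CodesR C) (H789.MS.HN25C.cur.map fl) H789.MS.HN25C.Li := (.cons code0 (.cons code1 (.cons code2 (.cons code3 (.cons code4 (.cons code5 (.cons code6 (.cons code7 (.cons code9 (.cons code15 (.cons code16 .nil)))))))))))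
  exact H789.MS.Cut.piece_sound (good_of_check Rep.good) h (by decide +kernel) H789.MS.HN25C.chk (by decide)

theorem code46 : CodesR C (fl 87) H789.MS.HN25Data.M46 :=
  code_of pieceC 3 (List.Mem.head _) (by decide)
theorem code47 : CodesR C (fl 86) H789.MS.HN25Data.M47 :=
  code_of pieceC 2 (List.Mem.tail _ (List.Mem.head _)) (by decide)
theorem code48 : CodesR C (fl 85) H789.MS.HN25Data.M48 :=
  code_of pieceC 1 (List.Mem.tail _ (List.Mem.tail _ (List.Mem.head _))) (by decide)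
theorem code50 : CodesR C (fl 83) H789.MS.HN25Data.M50 :=
  code_of pieceC 0 (List.Mem.tail _ (List.Mem.tail _ (List.Mem.tail _ (List.Mem.head _)))) (by decide)

theorem eq_of {es : List (ℕ × ℕ)} {l : List ℕ}
    (h : ∀ q ∈ es, (runG (prog ++ extra) LG).getD (l.getD q.1 0) 1 = (runG (prog ++ extra) LG).getD (l.getD q.2 0) 1)
    {q : ℕ × ℕ} (hm : q ∈ es) {i j : ℕ} (hi : l.getD q.1 0 = i) (hj : l.getD q.2 0 = j) :
    (runG (prog ++ extra) LG).getD i 1 = (runG (prog ++ extra) LG).getD j 1 := by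
  subst hi hj
  exact h q hm

theorem pieceD : ∀ q ∈ H789.MS.HN25D.es, (runG (prog ++ extra) LG).getD
    ((H789.MS.HN25D.ps.reverse ++ H789.MS.HN25D.cur).getD q.1 0) 1 = (runG (prog ++ extra) LG).getD
    ((H789.MS.HN25D.ps.reverse ++ H789.MS.HN25D.cur).getD q.2 0) 1 := by
  have h : List.Forall₂ (CodesR C) (H789.MS.HN25D.cur.map fl) H789.MS.HN25D.Li := (.cons code9 (.cons code15 (.cons code28 (.cons code32 (.cons code46 (.cons code47 (.cons code48 (.cons code50 .nil))))))))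
  exact (H789.MS.Cut.piece_eq (good_of_check Rep.good) h (by decide +kernel) H789.MS.HN25D.chk (by decide)).1

theorem sound' : (∀ q ∈ es', (runG (prog ++ extra) LG).getD q.1 1 = (runG (prog ++ extra) LG).getD q.2 1) ∧
    (∀ q ∈ ([] : List (ℕ × ℕ)), (runG (prog ++ extra) LG).getD q.1 1 ≠ (runG (prog ++ extra) LG).getD q.2 1) := by
  refine ⟨fun q hq => ?_, fun q hq => absurd hq List.not_mem_nil⟩
  have hq2 : q ∈ H789.MS.HN25D.es := hq
  simp only [es', List.mem_cons, List.not_mem_nil, or_false] at hq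
  rcases hq with rfl | rfl | rfl | rfl | rfl <;> exact eq_of pieceD hq2 (by decide) (by decide)

/-- the results of the further steps in the presented group -/
noncomputable def T (i : ℕ) : Cfsg.Spor.HN := (runG extra (runG prog gens)).getD i 1

theorem rho_T (i : ℕ) : rho (T i) = (runG (prog ++ extra) LG).getD i 1 := by
  unfold T
  rw [← runG_append, ← Rep.gens_map, runG_map, List.getD_eq_getElem?_getD, List.getD_eq_getElem?_getD,
    List.getElem?_map]
  cases (runG (prog ++ extra) gens)[i]? with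
  | none => simp
  | some b => simp

theorem eqT {i j : ℕ} (h : (i, j) ∈ es') : T i = T j := by
  have := Cfsg.Agent.S1701.result.1
  apply A12Group.rho_injective
  rw [rho_T, rho_T]
  exact sound'.1 (i, j) h

theorem stepT {i : ℕ} {w : List ℕ} (hi : i < extra.length)
    (hw : ((extra.reverse.getD i (0, [])).1 :: (extra.reverse.getD i (0, [])).2) = w) :
    T i = evF (fun m => T (i + 1 + m)) w := by
  rw [← hw]
  exact runG_step extra (runG prog gens) i hi

theorem TR (m : ℕ) : T (17 + m) = R m := runG_getD extra (runG prog gens) m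

theorem tW : T 118 = W := TR 101
theorem tA : T 85 = A := TR 68
theorem tC : T 101 = C₁ := TR 84
theorem tD : T 124 = D := TR 107
theorem tG : T 87 = G := TR 70
theorem tGi : T 86 = Gi := TR 69
theorem tF : T 83 = F := TR 66
theorem tk : T 105 = k := TR 88

theorem t16 : T 16 = T 87 * (T 105 * (T 105 * (T 86 * 1))) := stepT (i := 16) (w := [70, 88, 88, 69]) (by decide) (by rfl)
theorem t15 : T 15 = T 85 * (T 85 * 1) := stepT (i := 15) (w := [69, 69]) (by decide) (by rfl)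
theorem t14 : T 14 = T 15 * (T 15 * 1) := stepT (i := 14) (w := [0, 0]) (by decide) (by rfl)
theorem t13 : T 13 = T 14 * (T 124 * (T 124 * (T 124 * 1))) := stepT (i := 13) (w := [0, 110, 110, 110]) (by decide) (by rfl)
theorem t12 : T 12 = T 13 * (T 16 * 1) := stepT (i := 12) (w := [0, 3]) (by decide) (by rfl)
theorem t11 : T 11 = T 13 * (T 12 * 1) := stepT (i := 11) (w := [1, 0]) (by decide) (by rfl)
theorem t10 : T 10 = T 13 * (T 11 * 1) := stepT (i := 10) (w := [2, 0]) (by decide) (by rfl)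
theorem t9 : T 9 = T 13 * (T 10 * 1) := stepT (i := 9) (w := [3, 0]) (by decide) (by rfl)
theorem t8 : T 8 = T 101 * (T 83 * 1) := stepT (i := 8) (w := [92, 74]) (by decide) (by rfl)
theorem t7 : T 7 = T 101 * (T 8 * 1) := stepT (i := 7) (w := [93, 0]) (by decide) (by rfl)
theorem t6 : T 6 = T 101 * (T 7 * 1) := stepT (i := 6) (w := [94, 0]) (by decide) (by rfl)
theorem t5 : T 5 = T 101 * (T 6 * 1) := stepT (i := 5) (w := [95, 0]) (by decide) (by rfl)
theorem t4 : T 4 = T 8 * (T 12 * (T 8 * 1)) := stepT (i := 4) (w := [3, 7, 3]) (by decide) (by rfl)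
theorem t3 : T 3 = T 7 * (T 11 * (T 7 * 1)) := stepT (i := 3) (w := [3, 7, 3]) (by decide) (by rfl)
theorem t2 : T 2 = T 6 * (T 10 * (T 6 * 1)) := stepT (i := 2) (w := [3, 7, 3]) (by decide) (by rfl)
theorem t1 : T 1 = T 5 * (T 9 * (T 5 * 1)) := stepT (i := 1) (w := [3, 7, 3]) (by decide) (by rfl)
theorem t0 : T 0 = T 118 * (T 16 * (T 118 * 1)) := stepT (i := 0) (w := [117, 15, 117]) (by decide) (by rfl)

/-- `n` inverts `W` -/
theorem inv_W : W * (T 16 * W) = T 16 := by
  have h : T 0 = T 16 := eqT (by decide)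
  rw [t0, tW, mul_one] at h
  exact h

/-- `A⁴ D³` commutes with `W` -/
theorem comm_a : W * T 13 = T 13 * W := by
  have h1 : Commute W A := ext.wa
  have h2 : Commute W D := ext.wd
  rw [t13, t14, t15, tA, tD]
  simp only [mul_one]
  exact (((h1.mul_right h1).mul_right (h1.mul_right h1)).mul_right (h2.mul_right (h2.mul_right h2))).eq

/-- if `y n y = n` and `W n W = n`, then `y W^m` is real -/
theorem real_of {y n : Spor.HN} (hy : y * (n * y) = n) (hW : W * (n * W) = n) (hc : Commute W y) (m : ℤ) :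
    IsConj (y * W ^ m) (y * W ^ m)⁻¹ := by
  have h1 : n * y * n⁻¹ = y⁻¹ := by
    calc n * y * n⁻¹ = y⁻¹ * (y * (n * y)) * n⁻¹ := by group
      _ = y⁻¹ := by rw [hy]; group
  have h2 : n * W * n⁻¹ = W⁻¹ := by
    calc n * W * n⁻¹ = W⁻¹ * (W * (n * W)) * n⁻¹ := by group
      _ = W⁻¹ := by rw [hW]; group
  refine isConj_iff.2 ⟨n, ?_⟩
  have h3 : n * (y * W ^ m) * n⁻¹ = (n * y * n⁻¹) * (n * W ^ m * n⁻¹) := by group
  rw [h3, ← conj_zpow, h1, h2, inv_zpow, ← mul_inv_rev, (hc.zpow_left m).eq]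

theorem step_W {n : Spor.HN} (hW : W * (n * W) = n) : W * (T 13 * n * W) = T 13 * n := by
  calc W * (T 13 * n * W) = (W * T 13) * n * W := by group
    _ = T 13 * (W * (n * W)) := by rw [comm_a]; group
    _ = T 13 * n := by rw [hW]

theorem w12 : W * (T 12 * W) = T 12 := by rw [t12, mul_one]; exact step_W inv_W
theorem w11 : W * (T 11 * W) = T 11 := by rw [t11, mul_one]; exact step_W w12
theorem w10 : W * (T 10 * W) = T 10 := by rw [t10, mul_one]; exact step_W w11
theorem w9 : W * (T 9 * W) = T 9 := by rw [t9, mul_one]; exact step_W w10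

theorem y8 : T 8 = C₁ ^ 1 * F := by rw [t8, tC, tF, mul_one, pow_one]
theorem y7 : T 7 = C₁ ^ 2 * F := by rw [t7, y8, tC, mul_one, ← mul_assoc, ← pow_succ']
theorem y6 : T 6 = C₁ ^ 3 * F := by rw [t6, y7, tC, mul_one, ← mul_assoc, ← pow_succ']
theorem y5 : T 5 = C₁ ^ 4 * F := by rw [t5, y6, tC, mul_one, ← mul_assoc, ← pow_succ']

theorem comm_y (u : ℕ) : Commute W (C₁ ^ u * F) :=
  ((show Commute W C₁ from ext.wc).pow_right u).mul_right (show Commute W F from FW.symm)

/-- the representatives -/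
theorem real_c {u : ℕ} (h1 : 1 ≤ u) (h4 : u ≤ 4) (m : ℤ) :
    IsConj (nf W A B C₁ D 0 0 u 0 m * F) (nf W A B C₁ D 0 0 u 0 m * F)⁻¹ := by
  have cF : Commute (W ^ m) F := (show Commute W F from FW.symm).zpow_left m
  have h2 : nf W A B C₁ D 0 0 u 0 m * F = C₁ ^ u * F * W ^ m := by
    simp only [nf, zpow_zero, one_mul, mul_one, zpow_natCast]
    rw [mul_assoc, cF.eq, ← mul_assoc]
  rw [h2]
  have e1 : T 8 * (T 12 * T 8) = T 12 := by
    have h : T 4 = T 12 := eqT (by decide)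
    rwa [t4, mul_one] at h
  have e2 : T 7 * (T 11 * T 7) = T 11 := by
    have h : T 3 = T 11 := eqT (by decide)
    rwa [t3, mul_one] at h
  have e3 : T 6 * (T 10 * T 6) = T 10 := by
    have h : T 2 = T 10 := eqT (by decide)
    rwa [t2, mul_one] at h
  have e4 : T 5 * (T 9 * T 5) = T 9 := by
    have h : T 1 = T 9 := eqT (by decide)
    rwa [t1, mul_one] at h
  rw [y8] at e1
  rw [y7] at e2
  rw [y6] at e3
  rw [y5] at e4
  have hu : u = 1 ∨ u = 2 ∨ u = 3 ∨ u = 4 := by omega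
  rcases hu with rfl | rfl | rfl | rfl
  · exact real_of e1 w12 (comm_y 1) m
  · exact real_of e2 w11 (comm_y 2) m
  · exact real_of e3 w10 (comm_y 3) m
  · exact real_of e4 w9 (comm_y 4) m

/-- real -/
def Rl (x : Spor.HN) : Prop := IsConj x x⁻¹

theorem move3 (g v : ℕ) (h : ∀ m, Rl (nv (mv2 g v) m * F)) : ∀ m, Rl (nv v m * F) := by
  intro m
  have key : ∀ (s : Spor.HN) (a0 a1 a2 a3 a4 s0 s1 s2 s3 : ℤ) (c0 c1 c2 c3 : ℕ),
      s⁻¹ = nf W A B C₁ D s0 s1 s2 s3 0 → F * s = nf W A B C₁ D a0 a1 a2 a3 a4 * F →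
      (5 : ℤ) ∣ s0 + a0 - c0 → (5 : ℤ) ∣ s1 + a1 - c1 → (5 : ℤ) ∣ s2 + a2 - c2 → (5 : ℤ) ∣ s3 + a3 - c3 →
      (∀ m, Rl (nv (en (d0 v + c0) (d1 v + c1) (d2 v + c2) (d3 v + c3)) m * F)) → Rl (nv v m * F) := by
    intro s a0 a1 a2 a3 a4 s0 s1 s2 s3 c0 c1 c2 c3 hs hF h0 h1 h2 h3 hv
    apply real_of_conj s⁻¹
    obtain ⟨m', hm⟩ := step_F hs hF (d0 v) (d1 v) (d2 v) (d3 v) m
    rw [nv, hm]
    have h4 := hv m'
    rw [← nf_en] at h4
    rw [nf_mod (i' := ((d0 v + c0 : ℕ) : ℤ)) (j' := ((d1 v + c1 : ℕ) : ℤ)) (u' := ((d2 v + c2 : ℕ) : ℤ))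
      (l' := ((d3 v + c3 : ℕ) : ℤ)) (by push_cast; omega) (by push_cast; omega) (by push_cast; omega)
      (by push_cast; omega)]
    exact h4
  rcases g with _ | _ | _ | g
  · exact key A _ _ _ _ _ (-1) 0 0 0 4 0 4 4 (by simp [nf]) e_fa1 (by norm_num) (by norm_num) (by norm_num) (by norm_num)
      h
  · exact key B _ _ _ _ _ 0 (-1) 0 0 0 0 0 4 (by simp [nf]) e_fb1 (by norm_num) (by norm_num) (by norm_num) (by norm_num)
      h
  · exact key C₁ _ _ _ _ _ 0 0 (-1) 0 4 1 3 4 (by simp [nf]) e_fa2 (by norm_num) (by norm_num) (by norm_num)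
      (by norm_num) h
  · exact key D _ _ _ _ _ 0 0 0 (-1) 4 0 4 3 (by simp [nf]) e_fb2 (by norm_num) (by norm_num) (by norm_num) (by norm_num)
      h

/-- the elements of the coset of `F` are real -/
theorem real_F : ∀ v < 625, ∀ m, Rl (nv v m * F) := by
  intro v hv
  refine all_of_rank (P := fun v => ∀ m, Rl (nv v m * F)) chk2 move3 ?_ _ v (Nat.lt_succ_self _) hv
    (fun h => absurd h (by decide))
  intro v hv m
  simp only [List.mem_cons, List.not_mem_nil, or_false] at hv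
  have hc : ∀ u : ℕ, u < 5 → nv (25 * u) m = nf W A B C₁ D 0 0 u 0 m := by
    intro u hu
    rw [nv, d0e, d1e, d2e, d3e]
    apply nf_eq <;> omega
  rcases hv with rfl | rfl | rfl | rfl | rfl
  · have h0 : nv 0 m = W ^ m := by simp [nv, nf, d0e, d1e, d2e, d3e]
    rw [h0]
    exact real_WF m
  · rw [show (25 : ℕ) = 25 * 1 from rfl, hc 1 (by decide)]
    exact real_c (by decide) (by decide) m
  · rw [show (50 : ℕ) = 25 * 2 from rfl, hc 2 (by decide)]
    exact real_c (by decide) (by decide) m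
  · rw [show (75 : ℕ) = 25 * 3 from rfl, hc 3 (by decide)]
    exact real_c (by decide) (by decide) m
  · rw [show (100 : ℕ) = 25 * 4 from rfl, hc 4 (by decide)]
    exact real_c (by decide) (by decide) m

/-- **the 5-elements of HN are real** -/
theorem real_of_five_group {g : Spor.HN} {n : ℕ} (hg : g ^ 5 ^ n = 1) : IsConj g g⁻¹ := by
  have : Finite Spor.HN := Nat.finite_of_card_ne_zero (by rw [card_HN]; norm_num)
  have h1 : IsPGroup 5 (zpowers g) := by
    rintro ⟨_, m, rfl⟩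
    refine ⟨n, Subtype.ext ?_⟩
    change (g ^ m) ^ 5 ^ n = 1
    rw [← zpow_natCast, ← zpow_mul, mul_comm, zpow_mul, zpow_natCast, hg, one_zpow]
  obtain ⟨Q, hQ⟩ := h1.exists_le_sylow
  obtain ⟨x, hx⟩ := MulAction.exists_smul_eq Spor.HN Q (isPGroup_P.toSylow index_P)
  have h2 : (Q : Subgroup Spor.HN).map (MulAut.conj x).toMonoidHom = P := by
    have := congrArg (fun S : Sylow 5 Spor.HN => (S : Subgroup Spor.HN)) hx
    exact this
  have h3 : x * g * x⁻¹ ∈ P := by
    rw [← h2]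
    exact ⟨g, hQ (mem_zpowers g), rfl⟩
  apply real_of_conj x
  obtain ⟨q, hq, s, hs⟩ := h3
  rw [hs]
  by_cases h5 : (5 : ℤ) ∣ s
  · have h6 : F ^ s = 1 := by rw [zpow_eq F5 (i := s) (j := 0) (by simpa using h5), zpow_zero]
    rw [h6, mul_one]
    exact real_Q hq
  · obtain ⟨t, ht⟩ : ∃ t : ℕ, (5 : ℤ) ∣ s * t - 1 := by
      have h4 : s % 5 = 1 ∨ s % 5 = 2 ∨ s % 5 = 3 ∨ s % 5 = 4 := by omega
      rcases h4 with h | h | h | h
      · exact ⟨1, by push_cast; omega⟩
      · exact ⟨3, by push_cast; omega⟩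
      · exact ⟨2, by push_cast; omega⟩
      · exact ⟨4, by push_cast; omega⟩
    have ht5 : ¬ 5 ∣ t := by
      rintro ⟨r, rfl⟩
      push_cast at ht
      have h6 : (5 : ℤ) ∣ s * (5 * r) := ⟨s * r, by ring⟩
      have h7 := dvd_sub h6 ht
      simp at h7
    have hreal : IsConj ((q * F ^ s) ^ t) ((q * F ^ s) ^ t)⁻¹ := by
      obtain ⟨q', hq', he⟩ := pow_form hq s t
      rw [he, zpow_eq F5 (i := s * t) (j := 1) ht, zpow_one]
      obtain ⟨i, j, u, l, m, rfl⟩ := hq'
      obtain ⟨v, hv, he⟩ := exists_code i j u l m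
      rw [he]
      exact real_F v hv m
    -- back to `q F ^ s`
    have ho : (q * F ^ s) ^ 5 ^ n = 1 := by
      rw [← hs, conj_pow, hg, mul_one, mul_inv_cancel]
    have hcop : Nat.Coprime t (5 ^ n) :=
      Nat.Coprime.pow_right n (((Nat.Prime.coprime_iff_not_dvd Nat.prime_five).2 ht5).symm)
    obtain ⟨c, hc⟩ := isConj_iff.1 hreal
    generalize q * F ^ s = y at *
    have hcopo : Nat.Coprime t (orderOf y) := Nat.Coprime.coprime_dvd_right (orderOf_dvd_of_pow_eq_one ho) hcop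
    obtain ⟨e, he⟩ := exists_pow_eq_self_of_coprime hcopo
    refine isConj_iff.2 ⟨c, ?_⟩
    have h8 : c * (y ^ t) ^ e * c⁻¹ = ((y ^ t)⁻¹) ^ e := by rw [← hc, conj_pow]
    rw [he, inv_pow, he] at h8
    exact h8

/-- elements of order 25 -/
theorem real_25 {g : Spor.HN} (h : orderOf g = 25) : ∃ b : Spor.HN, b * g * b⁻¹ = g⁻¹ :=
  isConj_iff.1 (real_of_five_group (n := 2) (by rw [show 5 ^ 2 = 25 by norm_num, ← h]; exact pow_orderOf_eq_one g))

end Cfsg.Agent.H253.Ore.HN25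
end

private theorem dce_166589f68dfa : _root_.True := by
  try have : _root_.True := by simp only [_root_.Cfsg.Agent.H253.Ore.HN25.es'.eq_1]
  exact _root_.True.intro
end

-- part: H981/Ore/HNT1
section
set_option linter.all false
open scoped Cfsg.Agent.FastGrp

-- part: H981/Ore/HNPrime
section
/-!
# Ore, row HN: elements of prime order, and the frame of the row (helper981)

* `isC_of_conj_W0` : elements with a power conjugate to `W0`: commutators, or small centralizer;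
* `isC_two`, `isC_moved`, `isC_prime` : elements of prime order;
* `allC_of` : the row from (T1) elements with `|C(g)| ≤ 5760` are commutators and (C) the centralizer bounds of the
  remaining elements.
-/

set_option autoImplicit false

namespace Cfsg.Agent.H981.Ore.HNPrime

open Cfsg.Agent.HN Cfsg.Agent.HN.Pres Cfsg.Agent.HN.P1408 Cfsg.Agent.HN.H0Basic Cfsg.Agent.HN.XMat
open Cfsg.Agent.HN.XStruct Cfsg.Agent.HN.XWords Cfsg.Agent.HN.XQuot Cfsg.Agent.HN.XInst
open Cfsg.Agent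
open Cfsg.Agent.KFacts.HN
open Cfsg.Agent.H777.Ore (IsC AllC)
open Cfsg.Agent.H981.Ore.HNMM Cfsg.Agent.H981.Ore.HNPP

/-- an involution is a commutator -/
theorem isC_two {g : Cfsg.Spor.HN} (hg : orderOf g = 2) : IsC g := by
  rcases Classes.inv_class hg with h | h
  · have h1 : IsConj (Q 0) (r Q 1 * sgn0 false) := kind_D (m := 1) (by norm_num) (by decide +kernel) false
    have h2 : r Q 1 * sgn0 false ∈ MM := RS_le_MM (mem_RS.2 ⟨1, by norm_num, false, rfl⟩)
    have h3 : Q 0 = NormalH.ψ τ := inst.t_eq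
    rw [h3] at h1
    exact (isC_MM h2).of_isConj (h.trans h1).symm
  · exact isC_W0.of_isConj h.symm

theorem isC_moved {g : Cfsg.Spor.HN} {p : ℕ} (hp : p.Prime) (hg : orderOf g = p) (h : H497.Stein.MovedAt g) : IsC g := by
  obtain ⟨b, j, h1, h2⟩ := h
  exact H6.ORE.IsComm.of_prime hp hg h1 (by rw [h1]; exact h2)

/-- `g` has a power conjugate to `W0`: a commutator or a small centralizer -/
theorem isC_of_conj_W0 {g : Cfsg.Spor.HN} {n : ℕ} (h : IsConj (g ^ n) W0) :
    IsC g ∨ Nat.card (Subgroup.centralizer ({g} : Set Cfsg.Spor.HN)) ≤ 3840 := by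
  obtain ⟨c, hc⟩ := isConj_iff.1 h
  have h1 : (c * g * c⁻¹) ^ n = W0 := by rw [conj_pow, hc]
  by_cases hm : c * g * c⁻¹ ∈ MM
  · exact Or.inl ((isC_MM hm).of_conj c)
  · right
    rw [← card_cent_conj c g]
    exact card_le_of_pow h1 hm

/-- `p² ∤ |HN|`: moved, by transfer -/
theorem moved_of_card {p : ℕ} (hp : p.Prime) (h : ¬ p ^ 2 ∣ 273030912000000) : H497.Stein.Moved p Cfsg.Spor.HN := by
  have hs : IsSimpleGroup Cfsg.Spor.HN := Cfsg.Agent.S1701.result.1
  refine H497.Stein.moved_of_not_sq (H497.Stein.not_comm_of_card hs ?_) hp ?_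
  · rw [Classes.card_HN]; norm_num
  · rw [Classes.card_HN]; exact h

/-- elements of prime order -/
theorem isC_prime {g : Cfsg.Spor.HN} (hp : (orderOf g).Prime) : IsC g := by
  have hd : orderOf g ∣ 273030912000000 := by
    rw [← Classes.card_HN]
    exact orderOf_dvd_natCard g
  have hd2 : orderOf g ∣ 2 ^ 14 * (3 ^ 6 * (5 ^ 6 * (7 * (11 * 19)))) := by
    refine hd.trans (dvd_of_eq ?_)
    norm_num
  have hc : orderOf g = 2 ∨ orderOf g = 3 ∨ orderOf g = 5 ∨ orderOf g = 7 ∨ orderOf g = 11 ∨ orderOf g = 19 := by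
    rcases hp.dvd_mul.1 hd2 with h | h
    · exact Or.inl ((Nat.prime_dvd_prime_iff_eq hp Nat.prime_two).1 (hp.dvd_of_dvd_pow h))
    rcases hp.dvd_mul.1 h with h | h
    · exact Or.inr (Or.inl ((Nat.prime_dvd_prime_iff_eq hp Nat.prime_three).1 (hp.dvd_of_dvd_pow h)))
    rcases hp.dvd_mul.1 h with h | h
    · exact Or.inr (Or.inr (Or.inl ((Nat.prime_dvd_prime_iff_eq hp Nat.prime_five).1 (hp.dvd_of_dvd_pow h))))
    rcases hp.dvd_mul.1 h with h | h
    · exact Or.inr (Or.inr (Or.inr (Or.inl ((Nat.prime_dvd_prime_iff_eq hp (by norm_num)).1 h))))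
    rcases hp.dvd_mul.1 h with h | h
    · exact Or.inr (Or.inr (Or.inr (Or.inr (Or.inl ((Nat.prime_dvd_prime_iff_eq hp (by norm_num)).1 h)))))
    · exact Or.inr (Or.inr (Or.inr (Or.inr (Or.inr ((Nat.prime_dvd_prime_iff_eq hp (by norm_num)).1 h)))))
  rcases hc with h | h | h | h | h | h
  · exact isC_two h
  · exact isC_moved Nat.prime_three h (H285.HN3.moved_three g h)
  · exact isC_moved Nat.prime_five h (H285.HN5.moved_five g h)
  all_goals
    refine isC_moved (by norm_num) h (moved_of_card (by norm_num) (by norm_num) g h)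

end Cfsg.Agent.H981.Ore.HNPrime
end

-- part: H981/Ore/HNT1
section
/-!
# Ore, row HN: the counting lemma at the prime 19 (helper981)

* `sc19` : the self-centralizing prime 19 of `HN`, fourth moment at most 59;
* `isC_of_deg` : `19'`-degrees at least `d`, `58 (c - 1) < d²`, `|C(g)| ≤ c` : `g` is a commutator;
* `allC_of_deg` : the frame of the row with `19'`-degrees at least 771 (`c = 10249`).
-/

set_option autoImplicit false

namespace Cfsg.Agent.H981.Ore.HNT1

open Cfsg.Agent Cfsg.Agent.Characters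
open Cfsg.Agent.H777.Ore (IsC AllC)
open Cfsg.Agent.H65.Ore (SC)
open Cfsg.Agent.HN.XWords (W0)

theorem not_comm : ¬ IsMulCommutative Cfsg.Spor.HN := by
  intro h
  have hfin : Finite Cfsg.Spor.HN := Nat.finite_of_card_ne_zero (by rw [KFacts.HN.Classes.card_HN]; norm_num)
  refine H497.Stein.not_comm_of_card (G := Cfsg.Spor.HN) Cfsg.Agent.S1701.result.1 ?_ fun a b => h.is_comm.comm a b
  rw [KFacts.HN.Classes.card_HN]; norm_num

theorem sc19 : SC Cfsg.Spor.HN 19 59 := by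
  have hs : IsSimpleGroup Cfsg.Spor.HN := Cfsg.Agent.S1701.result.1
  have hfin : Finite Cfsg.Spor.HN := Nat.finite_of_card_ne_zero (by rw [KFacts.HN.Classes.card_HN]; norm_num)
  obtain ⟨x, hx, hc⟩ := H845.HNNineteen.hn_nineteen
  exact H65.Ore.sc_of not_comm (by norm_num) KFacts.HN.Classes.card_HN hx hc 9 2 59 (by decide +kernel)

/-- **(T1)** -/
theorem isC_of_deg {d c : ℕ} (hd : H511.Ore.DegOff Cfsg.Spor.HN 19 d) (hnum : 58 * (c - 1) < d ^ 2)
    {g : Cfsg.Spor.HN} (hc : Nat.card (Subgroup.centralizer ({g} : Set Cfsg.Spor.HN)) ≤ c) : IsC g := by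
  have hfin : Finite Cfsg.Spor.HN := Nat.finite_of_card_ne_zero (by rw [KFacts.HN.Classes.card_HN]; norm_num)
  obtain ⟨x, hx, -⟩ := H845.HNNineteen.hn_nineteen
  obtain ⟨a, b, h⟩ := sc19.comm hx hd hc hnum
  exact ⟨a, b, h⟩

/-- The frame of the row with `19'`-degrees at least 771. -/
theorem allC_of_deg (hd : H511.Ore.DegOff Cfsg.Spor.HN 19 771)
    (hC : ∀ g : Cfsg.Spor.HN, g ≠ 1 → ¬ (orderOf g).Prime → (∀ n : ℕ, ¬ IsConj (g ^ n) W0) →
      Nat.card (Subgroup.centralizer ({g} : Set Cfsg.Spor.HN)) ≤ 10249 ∨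
        (Odd (orderOf g) ∧ ∃ b : Cfsg.Spor.HN, b * g * b⁻¹ = g⁻¹)) : AllC Cfsg.Spor.HN := by
  intro g
  by_cases h1 : g = 1
  · rw [h1]; exact H777.Ore.isC_one
  by_cases hp : (orderOf g).Prime
  · exact HNPrime.isC_prime hp
  by_cases hW : ∃ n : ℕ, IsConj (g ^ n) W0
  · obtain ⟨n, hn⟩ := hW
    rcases HNPrime.isC_of_conj_W0 hn with h | h
    · exact h
    · exact isC_of_deg (c := 10249) hd (by norm_num) (h.trans (by norm_num))
  · push Not at hW
    rcases hC g h1 hp hW with h | ⟨ho, b, hb⟩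
    · exact isC_of_deg hd (by norm_num) h
    · exact H777.Ore.isC_of_real_odd hb ho

end Cfsg.Agent.H981.Ore.HNT1
end
end

-- part: H789/Ore/HNComp
section
set_option linter.all false
open scoped Cfsg.Agent.FastGrp

/-!
# ORE (S2443), row `HN`, piece (F) (helper789): elements of composite order without a power conjugate to `W0`

* `cent_le_of`: `|C(g)| ≤ 10249`, or `g` has order 9, or order 25 (and is real), from the bounds for the elements of
  order 3 and 5 of `H0` and for the elements of order divisible by 15.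
-/

set_option autoImplicit false

namespace Cfsg.Agent.H789.Ore.HNComp

open Subgroup Cfsg Cfsg.Agent
open Cfsg.Agent.HN.Pres (H0 gx)
open Cfsg.Agent.HN.NormalH (ψ H)
open Cfsg.Agent.HN.H0Basic (τ)
open Cfsg.Agent.HN.XWords (W0)
open Cfsg.Agent.H513.HNTau (conj_of_tau order_of_conj)

/-! ### 3-elements and 5-elements -/

theorem pow_form {G : Type*} [Group G] {Q : Subgroup G} {F : G} (hF : ∀ (s : ℤ), ∀ q ∈ Q, F ^ s * q * (F ^ s)⁻¹ ∈ Q)
    {q : G} (hq : q ∈ Q) (s : ℤ) (n : ℕ) : ∃ q' ∈ Q, (q * F ^ s) ^ n = q' * F ^ (s * n) := by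
  induction n with
  | zero => exact ⟨1, one_mem _, by simp⟩
  | succ n ih =>
    obtain ⟨q', hq', h⟩ := ih
    refine ⟨q' * (F ^ (s * n) * q * (F ^ (s * n))⁻¹), mul_mem hq' (hF _ _ hq), ?_⟩
    rw [pow_succ, h]
    have : F ^ (s * ((n + 1 : ℕ) : ℤ)) = F ^ (s * n) * F ^ s := by
      rw [← zpow_add]; congr 1; push_cast; ring
    rw [this]
    group

/-- elements `q F^s` have order dividing `p²` -/
theorem pow_sq_eq {G : Type*} [Group G] {Q : Subgroup G} {F : G} {p : ℕ}
    (hF : ∀ (s : ℤ), ∀ q ∈ Q, F ^ s * q * (F ^ s)⁻¹ ∈ Q) (hFp : F ^ p = 1) (hQ : ∀ q ∈ Q, q ^ p = 1)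
    {q : G} (hq : q ∈ Q) (s : ℤ) : (q * F ^ s) ^ (p * p) = 1 := by
  obtain ⟨q', hq', h⟩ := pow_form hF hq s p
  have h1 : F ^ (s * (p : ℤ)) = 1 := by rw [mul_comm, zpow_mul, zpow_natCast, hFp, one_zpow]
  rw [pow_mul, h, h1, mul_one, hQ _ hq']

/-- a `p`-element is conjugate into a given Sylow `p`-subgroup -/
theorem exists_conj {G : Type*} [Group G] [Finite G] {p : ℕ} [Fact p.Prime] {P : Subgroup G} (hP : IsPGroup p ↥P)
    (hi : ¬ p ∣ P.index) {g : G} {n : ℕ} (hg : g ^ p ^ n = 1) : ∃ x : G, x * g * x⁻¹ ∈ P := by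
  have h1 : IsPGroup p (zpowers g) := by
    rintro ⟨_, m, rfl⟩
    refine ⟨n, Subtype.ext ?_⟩
    change (g ^ m) ^ p ^ n = 1
    rw [← zpow_natCast, ← zpow_mul, mul_comm, zpow_mul, zpow_natCast, hg, one_zpow]
  obtain ⟨Q, hQ⟩ := h1.exists_le_sylow
  obtain ⟨x, hx⟩ := MulAction.exists_smul_eq G Q (hP.toSylow hi)
  have h2 : (Q : Subgroup G).map (MulAut.conj x).toMonoidHom = P := by
    have := congrArg (fun S : Sylow p G => (S : Subgroup G)) hx
    exact this
  refine ⟨x, ?_⟩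
  rw [← h2]
  exact ⟨g, hQ (mem_zpowers g), rfl⟩

theorem conj_pow_eq {G : Type*} [Group G] {x g : G} {m : ℕ} (h : (x * g * x⁻¹) ^ m = 1) : g ^ m = 1 := by
  rw [conj_pow] at h
  exact conj_eq_one_iff.1 h

/-- 3-elements of HN have order dividing 9 -/
theorem pow_nine {g : Spor.HN} {n : ℕ} (hg : g ^ 3 ^ n = 1) : g ^ 9 = 1 := by
  have h3 : Fact (Nat.Prime 3) := ⟨Nat.prime_three⟩
  obtain ⟨x, q, hq, s, hs⟩ := exists_conj H285.HN3.isPGroup_P H285.HN3.index_P hg
  apply conj_pow_eq (x := x)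
  rw [hs]
  exact pow_sq_eq (p := 3) H285.HN3.Fz_Q H285.HN3.e_f3 (H285.HN3.ext.pow_eq_one (by decide)) hq s

/-- 5-elements of HN have order dividing 25 -/
theorem pow_twentyfive {g : Spor.HN} {n : ℕ} (hg : g ^ 5 ^ n = 1) : g ^ 25 = 1 := by
  have h5 : Fact (Nat.Prime 5) := ⟨by norm_num⟩
  have hfin : Finite Spor.HN := Cfsg.Agent.H315.PwHN.fin
  obtain ⟨x, q, hq, s, hs⟩ := exists_conj H981.InvHN.isPGroup_P H981.InvHN.index_P hg
  apply conj_pow_eq (x := x)
  rw [hs]
  exact pow_sq_eq (p := 5) H981.InvHN.Fz_Q H981.InvHN.F5 (H839.Rad.HN.ext.pow_eq_one (by decide)) hq s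

/-! ### centralizers -/

/-- abbreviation for the order of the centralizer -/
noncomputable abbrev cn {G : Type*} [Group G] (g : G) : ℕ := Nat.card ↥(centralizer ({g} : Set G))

theorem cn_pow {G : Type*} [Group G] [Finite G] (g : G) (n : ℕ) : cn g ≤ cn (g ^ n) := by
  refine Nat.card_le_card_of_injective (Subgroup.inclusion ?_) (Subgroup.inclusion_injective _)
  intro x hx
  exact mem_centralizer_singleton_iff.2 ((Commute.pow_right (mem_centralizer_singleton_iff.1 hx) n))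

theorem exists_pow {G : Type*} [Group G] {g : G} {p : ℕ} (hp : p ∣ orderOf g) (h0 : orderOf g ≠ 0) :
    orderOf (g ^ (orderOf g / p)) = p := by
  obtain ⟨k, hk⟩ := hp
  have hp0 : p ≠ 0 := by rintro rfl; exact h0 (by rw [hk, zero_mul])
  have hk0 : k ≠ 0 := by rintro rfl; exact h0 (by rw [hk, mul_zero])
  rw [orderOf_pow' _ (by rw [hk, Nat.mul_div_cancel_left _ (Nat.pos_of_ne_zero hp0)]; exact hk0)]
  rw [hk, Nat.mul_div_cancel_left _ (Nat.pos_of_ne_zero hp0), Nat.gcd_mul_left_left,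
    Nat.mul_div_cancel _ (Nat.pos_of_ne_zero hk0)]

/-- even order -/
theorem even_case (hE3 : ∀ s : H0, orderOf s = 3 → cn s ≤ 10249) (hE5 : ∀ s : H0, orderOf s = 5 → cn s ≤ 10249)
    {g : Spor.HN} (h2 : 2 ∣ orderOf g) (hne : orderOf g ≠ 2) (hW : ∀ n : ℕ, ¬ IsConj (g ^ n) W0) : cn g ≤ 10249 := by
  have hfin : Finite Spor.HN := Cfsg.Agent.H315.PwHN.fin
  have hfin0 := Cfsg.Agent.HN.H0Basic.finite_H0
  set t := g ^ (orderOf g / 2) with ht
  have h0 : orderOf g ≠ 0 := (orderOf_pos g).ne'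
  have ho : orderOf t = 2 := exists_pow h2 h0
  have htx : t * g = g * t := ((Commute.refl g).pow_left _).eq
  have htau : IsConj (ψ τ) t := by
    rcases KFacts.HN.Classes.inv_class ho with h | h
    · exact h.symm
    · exact absurd h (hW _)
  obtain ⟨c, y, hc, hy⟩ := conj_of_tau htau htx
  -- the centralizer of `g` lies in the centralizer of `t`
  have h1 : cn g = cn y := by
    rw [cn, cn, ← H513.HNTau.card_inf hc hy]
    have : centralizer ({g} : Set Spor.HN) ⊓ centralizer ({t} : Set Spor.HN) = centralizer ({g} : Set Spor.HN) := by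
      refine inf_eq_left.2 fun v hv => mem_centralizer_singleton_iff.2 ?_
      exact ((Commute.pow_right (mem_centralizer_singleton_iff.1 hv) _)).eq
    rw [this]
  have h3 : orderOf y = orderOf g := order_of_conj hy
  have h4 : y ^ (orderOf y / 2) = τ := by
    apply Cfsg.Agent.KFacts.HN.emb.inj
    rw [map_pow, ← hy, conj_pow, h3, ← hc]
  rw [h1]
  rw [← h3] at h2 hne h0
  generalize y = y at *
  by_cases h44 : 4 ∣ orderOf y
  · obtain ⟨k, hk⟩ := h44
    have h5 : (y ^ k) ^ 2 = τ := by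
      rw [← pow_mul, ← h4, hk]
      congr 1
      omega
    have h6 := Cfsg.Agent.HN.Syl.isConj_of_sq_eq_τ h5
    obtain ⟨d, hd⟩ := isConj_iff.1 h6
    refine (cn_pow y k).trans ?_
    rw [← hd, cn, H513.HNH0.card_cent_conj]
    exact HNgx.card_gx.trans (by norm_num)
  · obtain ⟨m, hm⟩ := h2
    have hm1 : m ≠ 1 := by rintro rfl; exact hne hm
    obtain ⟨p, hp, hpm⟩ := Nat.exists_prime_and_dvd hm1
    have hpo : orderOf (y ^ (orderOf y / p)) = p := exists_pow (hm ▸ hpm.mul_left 2) h0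
    have hpd : p ∣ 177408000 := by
      rw [← Cfsg.Agent.HN.H0Basic.card_H0, ← hpo]
      exact orderOf_dvd_natCard _
    have hp2 : p ≠ 2 := by
      rintro rfl
      apply h44
      rw [hm]
      exact mul_dvd_mul_left 2 hpm
    have hcases : p = 3 ∨ p = 5 ∨ p = 7 ∨ p = 11 := by
      have hd2 : p ∣ 2 ^ 11 * (3 ^ 2 * (5 ^ 3 * (7 * 11))) := hpd.trans (dvd_of_eq (by norm_num))
      rcases hp.dvd_mul.1 hd2 with h | h
      · exact absurd ((Nat.prime_dvd_prime_iff_eq hp Nat.prime_two).1 (hp.dvd_of_dvd_pow h)) hp2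
      rcases hp.dvd_mul.1 h with h | h
      · exact Or.inl ((Nat.prime_dvd_prime_iff_eq hp Nat.prime_three).1 (hp.dvd_of_dvd_pow h))
      rcases hp.dvd_mul.1 h with h | h
      · exact Or.inr (Or.inl ((Nat.prime_dvd_prime_iff_eq hp (by norm_num)).1 (hp.dvd_of_dvd_pow h)))
      rcases hp.dvd_mul.1 h with h | h
      · exact Or.inr (Or.inr (Or.inl ((Nat.prime_dvd_prime_iff_eq hp (by norm_num)).1 h)))
      · exact Or.inr (Or.inr (Or.inr ((Nat.prime_dvd_prime_iff_eq hp (by norm_num)).1 h)))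
    refine (cn_pow y (orderOf y / p)).trans ?_
    rcases hcases with rfl | rfl | rfl | rfl
    · exact hE3 _ hpo
    · exact hE5 _ hpo
    · rw [cn, H513.HNTau.card_seven' hpo]; norm_num
    · rw [cn, H513.HNTau.card_eleven' hpo]; norm_num

theorem prime_cases {p : ℕ} (hp : p.Prime) (hd : p ∣ 273030912000000) :
    p = 2 ∨ p = 3 ∨ p = 5 ∨ p = 7 ∨ p = 11 ∨ p = 19 := by
  have hd2 : p ∣ 2 ^ 14 * (3 ^ 6 * (5 ^ 6 * (7 * (11 * 19)))) := hd.trans (dvd_of_eq (by norm_num))
  rcases hp.dvd_mul.1 hd2 with h | h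
  · exact Or.inl ((Nat.prime_dvd_prime_iff_eq hp Nat.prime_two).1 (hp.dvd_of_dvd_pow h))
  rcases hp.dvd_mul.1 h with h | h
  · exact Or.inr (Or.inl ((Nat.prime_dvd_prime_iff_eq hp Nat.prime_three).1 (hp.dvd_of_dvd_pow h)))
  rcases hp.dvd_mul.1 h with h | h
  · exact Or.inr (Or.inr (Or.inl ((Nat.prime_dvd_prime_iff_eq hp (by norm_num)).1 (hp.dvd_of_dvd_pow h))))
  rcases hp.dvd_mul.1 h with h | h
  · exact Or.inr (Or.inr (Or.inr (Or.inl ((Nat.prime_dvd_prime_iff_eq hp (by norm_num)).1 h))))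
  rcases hp.dvd_mul.1 h with h | h
  · exact Or.inr (Or.inr (Or.inr (Or.inr (Or.inl ((Nat.prime_dvd_prime_iff_eq hp (by norm_num)).1 h)))))
  · exact Or.inr (Or.inr (Or.inr (Or.inr (Or.inr ((Nat.prime_dvd_prime_iff_eq hp (by norm_num)).1 h)))))

/-- a number `n > 1` without a prime divisor other than `p` -/
theorem eq_pow_of {n p : ℕ} (hn : n ≠ 0) (h : ∀ q : ℕ, q.Prime → q ∣ n → q = p) : ∃ k, n = p ^ k :=
  ⟨_, (Nat.eq_prime_pow_of_unique_prime_dvd hn fun {q} hq hd => h q hq hd)⟩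

/-- **(F)**, from the bounds (E) and the elements of order divisible by 15 -/
theorem cent_le_of (hE3 : ∀ s : H0, orderOf s = 3 → cn s ≤ 10249) (hE5 : ∀ s : H0, orderOf s = 5 → cn s ≤ 10249)
    (h15 : ∀ g : Spor.HN, 15 ∣ orderOf g → cn g ≤ 10249) (g : Spor.HN) (h1 : g ≠ 1) (hp : ¬ (orderOf g).Prime)
    (hW : ∀ n : ℕ, ¬ IsConj (g ^ n) W0) :
    cn g ≤ 10249 ∨ orderOf g = 9 ∨ (orderOf g = 25 ∧ ∃ b : Spor.HN, b * g * b⁻¹ = g⁻¹) := by
  have hfin : Finite Spor.HN := Cfsg.Agent.H315.PwHN.fin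
  have h0 : orderOf g ≠ 0 := (orderOf_pos g).ne'
  have hone : orderOf g ≠ 1 := fun h => h1 (orderOf_eq_one_iff.1 h)
  by_cases h2 : 2 ∣ orderOf g
  · left
    refine even_case hE3 hE5 h2 ?_ hW
    intro h
    exact hp (h ▸ Nat.prime_two)
  have hd : ∀ q : ℕ, q ∣ orderOf g → q ∣ 273030912000000 := by
    intro q hq
    rw [← KFacts.HN.Classes.card_HN]
    exact hq.trans (orderOf_dvd_natCard g)
  by_cases h19 : 19 ∣ orderOf g
  · left
    refine (cn_pow g _).trans ((H315.PwHN.card_nineteen (exists_pow h19 h0)).le.trans (by norm_num))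
  by_cases h11 : 11 ∣ orderOf g
  · left
    refine (cn_pow g _).trans ((H315.PwHN.card_eleven (exists_pow h11 h0)).le.trans (by norm_num))
  by_cases h7 : 7 ∣ orderOf g
  · left
    refine (cn_pow g _).trans ((Nat.le_of_dvd (by norm_num) (H513.HNSeven.cent_seven (exists_pow h7 h0))).trans
      (by norm_num))
  by_cases h3 : 3 ∣ orderOf g
  · by_cases h5 : 5 ∣ orderOf g
    · left
      exact h15 g (Nat.Coprime.mul_dvd_of_dvd_of_dvd (by norm_num) h3 h5)
    · obtain ⟨k, hk⟩ := eq_pow_of (p := 3) h0 fun q hq hqd => by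
        rcases prime_cases hq (hd q hqd) with rfl | rfl | rfl | rfl | rfl | rfl
        · exact absurd hqd h2
        · rfl
        · exact absurd hqd h5
        · exact absurd hqd h7
        · exact absurd hqd h11
        · exact absurd hqd h19
      have h9 := pow_nine (g := g) (n := k) (by rw [← hk]; exact pow_orderOf_eq_one g)
      have h10 := orderOf_dvd_of_pow_eq_one h9
      right; left
      have : orderOf g ∈ Nat.divisors 9 := Nat.mem_divisors.2 ⟨h10, by norm_num⟩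
      rw [show Nat.divisors 9 = {1, 3, 9} by decide +kernel] at this
      simp only [Finset.mem_insert, Finset.mem_singleton] at this
      rcases this with h | h | h
      · exact absurd h hone
      · exact absurd (h ▸ Nat.prime_three) hp
      · exact h
  · obtain ⟨k, hk⟩ := eq_pow_of (p := 5) h0 fun q hq hqd => by
      rcases prime_cases hq (hd q hqd) with rfl | rfl | rfl | rfl | rfl | rfl
      · exact absurd hqd h2
      · exact absurd hqd h3
      · rfl
      · exact absurd hqd h7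
      · exact absurd hqd h11
      · exact absurd hqd h19
    have h9 := pow_twentyfive (g := g) (n := k) (by rw [← hk]; exact pow_orderOf_eq_one g)
    have h10 := orderOf_dvd_of_pow_eq_one h9
    right; right
    have : orderOf g ∈ Nat.divisors 25 := Nat.mem_divisors.2 ⟨h10, by norm_num⟩
    rw [show Nat.divisors 25 = {1, 5, 25} by decide +kernel] at this
    simp only [Finset.mem_insert, Finset.mem_singleton] at this
    rcases this with h | h | h
    · exact absurd h hone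
    · exact absurd (h ▸ (by norm_num : Nat.Prime 5)) hp
    · exact ⟨h, H253.Ore.HN25.real_25 h⟩

end Cfsg.Agent.H789.Ore.HNComp

private theorem dce_33b7be26e79c : _root_.True := by
  try have : _root_.True := by simp only [_root_.Cfsg.Agent.H789.Ore.HNComp.cn.eq_1]
  exact _root_.True.intro
end

-- part: H981/TC/HNReps
section
prune_inst 0x7f00000000000000000000000000000000000000000000000000000000000000000000000000000000000000000000000000000000000000000000000000000000000000000000000000000000000000003fffffffffffffffffffffffffffbeffbdffffffff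
set_option linter.all false
open scoped Cfsg.Agent.FastGrp

-- part: H981/TC/HNFive
section
/-!
# Elements of order 5 of the Harada-Norton group up to conjugacy (helper981, for S4173)

`Q = 5 ^ (1 + 4)` of `H839.Rad.HN`. `five_cases`: every element of order 5 is conjugate to one of seven elements of `Q`:
`A`, `A ^ 2`, `D`, `C₁`, `C₁ ^ 2`, `B D ^ 2`, `B C₁ ^ 3 D`.
-/

set_option autoImplicit false
set_option maxRecDepth 100000

namespace Cfsg.Agent.H981.TC.HNFive

open Subgroup Cfsg Cfsg.Agent.H839.Rad.Ext Cfsg.Agent.H285.ExtReal Cfsg.Agent.H981.InvHN Cfsg.Agent.H285.HN5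
open Cfsg.Agent.H839.Rad.HN (W A B C₁ D F τ k ext e_fa1 e_fb1 e_fa2 e_fb2 FW e_taua1 e_taub1 e_taua2 e_taub2 e_tauw
  e_ka1 e_kb1 e_ka2 e_kb2 e_kw F_Q A_eq F_eq e_b25 W_ne center_HN e_w5)

/-- the action of `F`, `τ`, `k` on `Q / Z(Q)` -/
def mv3 (g v : ℕ) : ℕ :=
  match g with
  | 0 => en (4 * d2 v + 4 * d3 v) (d1 v + d2 v) (4 * d0 v + 4 * d2 v + 4 * d3 v) (4 * d0 v + 4 * d1 v + 4 * d2 v + 4 * d3 v)
  | 1 => en (4 * d0 v) (4 * d1 v + 4 * d2 v) (d2 v) (d0 v + d3 v)
  | _ => en (2 * d2 v) (3 * d0 v + 4 * d2 v + 3 * d3 v) (2 * d0 v) (4 * d0 v + 3 * d1 v + 3 * d2 v)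

/-- rank table -/
def R3 : ℕ := 0x6674432456454654536443364555755266644657343453457653242555633454475453465323343133752324675755336232445766353636717656354571252543255375755445553534525435375452246445354635554556464335326573652444536264347556553543645626457466336254746765554635314156475663433556666554563755744372746413134424347433334534747633646745543535534665516574334347444646446233641636652734661570414264475555447461541443334454556745544355651543304654243553355467445676666753577356344543554364755253564576663663644566754351644054645545543465664623565227354664545662334656555262465554267143476545655464027541475556456447446445602226724642472217244622000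
/-- move table -/
def G3 : ℕ := 0x2060200209082002219a060111a208609822220618400005196806621881042142588444581801860140100a4012124045452840024aa04042498924019a10480502424044844100140011280008a211620009a0850a5046991024228044006440104050591620069911511004200080004280400881205050484190422800420500826644580081284a0440640482840445804220980904250a28280

/-- the representatives -/
def reps : List ℕ := [1, 2, 125, 25, 50, 255, 205]

theorem chk3 : (List.range 625).all (okv mv3 R3 G3 reps true) = true := by decide +kernel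

/-- conjugate to a representative -/
def S7 (x : Spor.HN) : Prop := ∃ v ∈ reps, IsConj (nv v 0) x

theorem S7.of_conj {x : Spor.HN} (t : Spor.HN) (h : S7 (t * x * t⁻¹)) : S7 x := by
  obtain ⟨v, hv, hc⟩ := h
  exact ⟨v, hv, hc.trans (isConj_iff.2 ⟨t, rfl⟩ : IsConj x (t * x * t⁻¹)).symm⟩

/-- conjugation -/
theorem step_conj7 {g : Spor.HN} (hW : g * W = W * g)
    {a0 a1 a2 a3 b0 b1 b2 b3 c0 c1 c2 c3 e0 e1 e2 e3 : ℕ} {a4 b4 c4 e4 : ℤ}
    (hA : g * A = nf W A B C₁ D a0 a1 a2 a3 a4 * g) (hB : g * B = nf W A B C₁ D b0 b1 b2 b3 b4 * g)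
    (hC : g * C₁ = nf W A B C₁ D c0 c1 c2 c3 c4 * g) (hD : g * D = nf W A B C₁ D e0 e1 e2 e3 e4 * g) {v : ℕ}
    (h : ∀ m, S7 (nv (en (d0 v * a0 + d1 v * b0 + d2 v * c0 + d3 v * e0) (d0 v * a1 + d1 v * b1 + d2 v * c1 + d3 v * e1)
      (d0 v * a2 + d1 v * b2 + d2 v * c2 + d3 v * e2) (d0 v * a3 + d1 v * b3 + d2 v * c3 + d3 v * e3)) m)) :
    ∀ m, S7 (nv v m) := by
  intro m
  apply S7.of_conj g
  obtain ⟨m', hm⟩ := conj_nf hW hA hB hC hD (d0 v) (d1 v) (d2 v) (d3 v) m
  rw [nv, hm]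
  have h1 := h m'
  rw [← nf_en] at h1
  push_cast at h1
  exact h1

theorem move7 (g v : ℕ) (h : ∀ m, S7 (nv (mv3 g v) m)) : ∀ m, S7 (nv v m) := by
  rcases g with _ | _ | g
  · refine step_conj7 FW (by exact_mod_cast e_fa1) (by exact_mod_cast e_fb1) (by exact_mod_cast e_fa2)
      (by exact_mod_cast e_fb2) fun m => ?_
    refine Eq.mp ?_ (h m)
    congr 2
    exact en_congr (by ring) (by ring) (by ring) (by ring)
  · refine step_conj7 e_tauw (by exact_mod_cast e_taua1) (by exact_mod_cast e_taub1) (by exact_mod_cast e_taua2)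
      (by exact_mod_cast e_taub2) fun m => ?_
    refine Eq.mp ?_ (h m)
    congr 2
    exact en_congr (by ring) (by ring) (by ring) (by ring)
  · refine step_conj7 e_kw (by exact_mod_cast e_ka1) (by exact_mod_cast e_kb1) (by exact_mod_cast e_ka2)
      (by exact_mod_cast e_kb2) fun m => ?_
    refine Eq.mp ?_ (h m)
    congr 2
    exact en_congr (by ring) (by ring) (by ring) (by ring)

/-- the central part of a normal form can be changed by conjugation -/
theorem rep_all7 {r0 r1 r2 r3 : ℤ} (s0 s1 s2 s3 : ℤ) (hω : (5 : ℤ) ∣ (s0 * r1 - r0 * s1 + s2 * r3 - r2 * s3) - 1)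
    (h : S7 (nf W A B C₁ D r0 r1 r2 r3 0)) (m : ℤ) : S7 (nf W A B C₁ D r0 r1 r2 r3 m) := by
  apply S7.of_conj (nf W A B C₁ D (-m * s0) (-m * s1) (-m * s2) (-m * s3) 0)
  rw [ext.nf_mul_comm, mul_assoc (W ^ _), mul_inv_cancel_right]
  have h1 : W ^ (-m * s0 * r1 - r0 * (-m * s1) + -m * s2 * r3 - r2 * (-m * s3)) = W ^ (-m) := by
    apply zpow_eq e_w5
    obtain ⟨t, ht⟩ := hω
    exact ⟨-m * t, by linear_combination (-m) * ht⟩
  rw [h1]
  have h2 : W ^ (-m) = nf W A B C₁ D 0 0 0 0 (-m) := by simp [nf]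
  rw [h2, ext.nf_mul]
  have h3 : nf W A B C₁ D (0 + r0) (0 + r1) (0 + r2) (0 + r3) (-m + m - r0 * 0 - r2 * 0) =
      nf W A B C₁ D r0 r1 r2 r3 0 := by
    congr 1 <;> ring
  rw [h3]
  exact h

theorem goodQ7 : ∀ v < 625, v ≠ 0 → ∀ m, S7 (nv v m) := by
  intro v hv h0
  refine all_of_rank (P := fun v => ∀ m, S7 (nv v m)) chk3 move7 ?_ _ v (Nat.lt_succ_self _) hv (fun _ => h0)
  intro v hv m
  have hr : S7 (nv v 0) := ⟨v, hv, IsConj.refl _⟩
  unfold reps at hv
  simp only [List.mem_cons, List.not_mem_nil, or_false] at hv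
  rcases hv with rfl | rfl | rfl | rfl | rfl | rfl | rfl
  · exact rep_all7 0 (-1) 0 0 (by decide) hr m
  · exact rep_all7 0 2 0 0 (by decide) hr m
  · exact rep_all7 0 0 1 0 (by decide) hr m
  · exact rep_all7 0 0 0 (-1) (by decide) hr m
  · exact rep_all7 0 0 0 2 (by decide) hr m
  · exact rep_all7 1 0 0 0 (by decide) hr m
  · exact rep_all7 1 0 0 0 (by decide) hr m

theorem nv_zero (m : ℤ) : nv 0 m = W ^ m := by simp [nv, nf, d0e, d1e, d2e, d3e]

/-- the elements of `Q` -/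
theorem goodQ {x : Spor.HN} (hx : x ∈ ext.Q) (h1 : x ≠ 1) : S7 x := by
  obtain ⟨i, j, u, l, m, rfl⟩ := hx
  obtain ⟨v, hv, he⟩ := exists_code i j u l m
  rw [he] at h1 ⊢
  by_cases h0 : v = 0
  · subst h0
    rw [nv_zero] at h1 ⊢
    have h3 : ¬ (5 : ℤ) ∣ m := fun h => h1 (by rw [zpow_eq e_w5 (i := m) (j := 0) (by simpa using h), zpow_zero])
    apply S7.of_conj Cfsg.Agent.H839.Rad.HN.G⁻¹
    have h4 : Cfsg.Agent.H839.Rad.HN.G⁻¹ * W ^ m * Cfsg.Agent.H839.Rad.HN.G⁻¹⁻¹ = A ^ m := by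
      rw [← conj_zpow, inv_inv, ← A_eq]
    rw [h4]
    have h5 : A ^ m = nf W A B C₁ D m 0 0 0 0 := by simp [nf]
    obtain ⟨v, hv, he⟩ := exists_code m 0 0 0 0
    rw [h5, he]
    apply goodQ7 v hv
    rintro rfl
    rw [nv_zero, zpow_zero] at he
    have h6 : A ^ m = A ^ (0 : ℤ) := by rw [h5, he, zpow_zero]
    have h7 : A ^ m ∈ zpowers W := by rw [h6, zpow_zero]; exact one_mem _
    have h8 : B = nf W A B C₁ D 0 1 0 0 0 := by simp [nf]
    have h9 := comm_of_mem h7 ext.b_mem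
    have h9' : nf W A B C₁ D m 0 0 0 0 * nf W A B C₁ D 0 1 0 0 0 = nf W A B C₁ D 0 1 0 0 0 * nf W A B C₁ D m 0 0 0 0 := by
      rw [← h5, ← h8]; exact h9
    have h10 := ext.comm_iff.1 h9'
    exact h3 (by simpa using h10)
  · exact goodQ7 v hv h0 m

/-! ### the coset of `F` -/

/-- `x` is not of order 5 or conjugate into `Q` -/
def IQ (x : Spor.HN) : Prop := x ^ 5 = 1 → ∃ c : Spor.HN, c * x * c⁻¹ ∈ ext.Q

theorem IQ.of_conj {x : Spor.HN} (t : Spor.HN) (h : IQ (t * x * t⁻¹)) : IQ x := by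
  intro hx
  obtain ⟨c, hc⟩ := h (by rw [conj_pow, hx, mul_one, mul_inv_cancel])
  refine ⟨c * t, ?_⟩
  have : c * t * x * (c * t)⁻¹ = c * (t * x * t⁻¹) * c⁻¹ := by group
  rw [this]
  exact hc

theorem moveIQ (g v : ℕ) (h : ∀ m, IQ (nv (mv2 g v) m * F)) : ∀ m, IQ (nv v m * F) := by
  intro m
  have key : ∀ (s : Spor.HN) (a0 a1 a2 a3 a4 s0 s1 s2 s3 : ℤ) (c0 c1 c2 c3 : ℕ),
      s⁻¹ = nf W A B C₁ D s0 s1 s2 s3 0 → F * s = nf W A B C₁ D a0 a1 a2 a3 a4 * F →
      (5 : ℤ) ∣ s0 + a0 - c0 → (5 : ℤ) ∣ s1 + a1 - c1 → (5 : ℤ) ∣ s2 + a2 - c2 → (5 : ℤ) ∣ s3 + a3 - c3 →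
      (∀ m, IQ (nv (en (d0 v + c0) (d1 v + c1) (d2 v + c2) (d3 v + c3)) m * F)) → IQ (nv v m * F) := by
    intro s a0 a1 a2 a3 a4 s0 s1 s2 s3 c0 c1 c2 c3 hs hF h0 h1 h2 h3 hv
    apply IQ.of_conj s⁻¹
    obtain ⟨m', hm⟩ := step_F hs hF (d0 v) (d1 v) (d2 v) (d3 v) m
    rw [nv, hm]
    have h4 := hv m'
    rw [← nf_en] at h4
    rw [nf_mod (i' := ((d0 v + c0 : ℕ) : ℤ)) (j' := ((d1 v + c1 : ℕ) : ℤ)) (u' := ((d2 v + c2 : ℕ) : ℤ))
      (l' := ((d3 v + c3 : ℕ) : ℤ)) (by push_cast; omega) (by push_cast; omega) (by push_cast; omega)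
      (by push_cast; omega)]
    exact h4
  rcases g with _ | _ | _ | g
  · exact key A _ _ _ _ _ (-1) 0 0 0 4 0 4 4 (by simp [nf]) e_fa1 (by norm_num) (by norm_num) (by norm_num) (by norm_num)
      h
  · exact key B _ _ _ _ _ 0 (-1) 0 0 0 0 0 4 (by simp [nf]) e_fb1 (by norm_num) (by norm_num) (by norm_num) (by norm_num)
      h
  · exact key C₁ _ _ _ _ _ 0 0 (-1) 0 4 1 3 4 (by simp [nf]) e_fa2 (by norm_num) (by norm_num) (by norm_num)
      (by norm_num) h
  · exact key D _ _ _ _ _ 0 0 0 (-1) 4 0 4 3 (by simp [nf]) e_fb2 (by norm_num) (by norm_num) (by norm_num) (by norm_num)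
      h

/-- elements of order 25 -/
theorem iq_of_ne {u : ℕ} (h : (C₁ ^ u * F) ^ 5 ≠ 1) (m : ℤ) : IQ (nf W A B C₁ D 0 0 u 0 m * F) := by
  intro h1
  exfalso
  apply h
  have cF : Commute (W ^ m) F := (show Commute W F from FW.symm).zpow_left m
  have cC : Commute (W ^ m) (C₁ ^ u) := ((show Commute W C₁ from ext.wc).zpow_left m).pow_right u
  have h2 : nf W A B C₁ D 0 0 u 0 m * F = C₁ ^ u * F * W ^ m := by
    simp only [nf, zpow_zero, one_mul, mul_one, zpow_natCast]
    rw [mul_assoc, cF.eq, ← mul_assoc]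
  have h3 : Commute (C₁ ^ u * F) (W ^ m) := Commute.mul_left cC.symm cF.symm
  rw [h2, h3.mul_pow] at h1
  have h4 : (W ^ m) ^ 5 = 1 := by
    rw [← zpow_natCast, ← zpow_mul, mul_comm, zpow_mul, zpow_natCast, e_w5, one_zpow]
  rwa [h4, mul_one] at h1

theorem iq_WF (m : ℤ) : IQ (W ^ m * F) := by
  intro _
  refine ⟨Cfsg.Agent.H839.Rad.HN.G⁻¹, ?_⟩
  have h1 : Cfsg.Agent.H839.Rad.HN.G⁻¹ * (W ^ m * F) * Cfsg.Agent.H839.Rad.HN.G⁻¹⁻¹ = A ^ m * D := by
    have h2 : Cfsg.Agent.H839.Rad.HN.G⁻¹ * (W ^ m * F) * Cfsg.Agent.H839.Rad.HN.G⁻¹⁻¹ =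
        (Cfsg.Agent.H839.Rad.HN.G⁻¹ * W ^ m * Cfsg.Agent.H839.Rad.HN.G⁻¹⁻¹) *
          (Cfsg.Agent.H839.Rad.HN.G⁻¹ * F * Cfsg.Agent.H839.Rad.HN.G⁻¹⁻¹) := by group
    rw [h2, ← conj_zpow, inv_inv, ← A_eq, F_eq]
    group
  rw [h1]
  exact mul_mem (zpow_mem ext.a_mem m) ext.d_mem

theorem iq_F : ∀ v < 625, ∀ m, IQ (nv v m * F) := by
  intro v hv
  refine all_of_rank (P := fun v => ∀ m, IQ (nv v m * F)) chk2 moveIQ ?_ _ v (Nat.lt_succ_self _) hv
    (fun h => absurd h (by decide))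
  intro v hv m
  simp only [List.mem_cons, List.not_mem_nil, or_false] at hv
  have hc : ∀ u : ℕ, u < 5 → nv (25 * u) m = nf W A B C₁ D 0 0 u 0 m := by
    intro u hu
    rw [nv, d0e, d1e, d2e, d3e]
    apply nf_eq <;> omega
  rcases hv with rfl | rfl | rfl | rfl | rfl
  · have h0 : nv 0 m = W ^ m := by simp [nv, nf, d0e, d1e, d2e, d3e]
    rw [h0]
    exact iq_WF m
  · rw [show (25 : ℕ) = 25 * 1 from rfl, hc 1 (by decide)]
    exact iq_of_ne (by simpa only [pow_one] using T3.r_c1) m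
  · rw [show (50 : ℕ) = 25 * 2 from rfl, hc 2 (by decide)]
    exact iq_of_ne (by simpa only [pow_succ, pow_zero, one_mul, mul_assoc] using T3.r_c2) m
  · rw [show (75 : ℕ) = 25 * 3 from rfl, hc 3 (by decide)]
    refine iq_of_ne ?_ m
    have h3 : C₁ ^ 3 * F = C₁ * (C₁ * (C₁ * F)) := by simp only [pow_succ, pow_zero, one_mul, mul_assoc]
    rw [h3]
    exact T3.r_c3
  · rw [show (100 : ℕ) = 25 * 4 from rfl, hc 4 (by decide)]
    refine iq_of_ne ?_ m
    have h3 : C₁ ^ 4 * F = C₁ * (C₁ * (C₁ * (C₁ * F))) := by simp only [pow_succ, pow_zero, one_mul, mul_assoc]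
    rw [h3]
    exact T3.r_c4

/-- **every element of order 5 is conjugate into `Q`** -/
theorem exists_mem_Q {x : Spor.HN} (hx : orderOf x = 5) : ∃ c : Spor.HN, c * x * c⁻¹ ∈ ext.Q := by
  have hx5 : x ^ 5 = 1 := by rw [← hx]; exact pow_orderOf_eq_one x
  obtain ⟨g, hg⟩ := Cfsg.Agent.H478.RadHeis.exists_conj_mem isPGroup_P index_P hx5
  have hgx5 : (g * x * g⁻¹) ^ 5 = 1 := by rw [conj_pow, hx5, mul_one, mul_inv_cancel]
  obtain ⟨q, hq, s, hs⟩ := hg
  by_cases h5 : (5 : ℤ) ∣ s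
  · have h1 : F ^ s = 1 := by rw [zpow_eq F5 (i := s) (j := 0) (by simpa using h5), zpow_zero]
    rw [h1, mul_one] at hs
    exact ⟨g, hs ▸ hq⟩
  · obtain ⟨t, ht⟩ : ∃ t : ℕ, (5 : ℤ) ∣ s * t - 1 := by
      have h4 : s % 5 = 1 ∨ s % 5 = 2 ∨ s % 5 = 3 ∨ s % 5 = 4 := by omega
      rcases h4 with h | h | h | h
      · exact ⟨1, by push_cast; omega⟩
      · exact ⟨3, by push_cast; omega⟩
      · exact ⟨2, by push_cast; omega⟩
      · exact ⟨4, by push_cast; omega⟩
    have ht5 : ¬ 5 ∣ t := by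
      rintro ⟨r, rfl⟩
      push_cast at ht
      have h6 : (5 : ℤ) ∣ s * (5 * r) := ⟨s * r, by ring⟩
      have h7 := dvd_sub h6 ht
      simp at h7
    have hIQ : IQ ((q * F ^ s) ^ t) := by
      obtain ⟨q', hq', he⟩ := pow_form hq s t
      rw [he, zpow_eq F5 (i := s * t) (j := 1) ht, zpow_one]
      obtain ⟨i, j, u, l, m, rfl⟩ := hq'
      obtain ⟨v, hv, he⟩ := exists_code i j u l m
      rw [he]
      exact iq_F v hv m
    rw [← hs] at hIQ
    obtain ⟨c, hc⟩ := hIQ (by rw [← pow_mul, mul_comm, pow_mul, hgx5, one_pow])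
    have hcop : Nat.Coprime t (orderOf (g * x * g⁻¹)) := by
      have h2 : orderOf (g * x * g⁻¹) ∣ 5 := orderOf_dvd_of_pow_eq_one hgx5
      exact Nat.Coprime.coprime_dvd_right h2 ((Nat.Prime.coprime_iff_not_dvd Nat.prime_five).2 ht5).symm
    obtain ⟨e, he⟩ := exists_pow_eq_self_of_coprime hcop
    refine ⟨c * g, ?_⟩
    have h8 : c * g * x * (c * g)⁻¹ = (c * (g * x * g⁻¹) ^ t * c⁻¹) ^ e := by
      rw [conj_pow, he]; group
    rw [h8]
    exact pow_mem hc e

/-- **every element of order 5 is conjugate to one of seven** -/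
theorem five_cases {x : Spor.HN} (hx : orderOf x = 5) : S7 x := by
  obtain ⟨c, hc⟩ := exists_mem_Q hx
  apply S7.of_conj c
  refine goodQ hc fun h => ?_
  rw [conj_eq_one_iff] at h
  rw [h, orderOf_one] at hx
  omega

end Cfsg.Agent.H981.TC.HNFive
end

-- part: H981/TC/HNReps
section
/-!
# The seven representatives as words (helper981, for S4173)
-/

set_option autoImplicit false

namespace Cfsg.Agent.H981.TC.HNFive

open Subgroup Cfsg Cfsg.Agent.H839.Rad.Ext Cfsg.Agent.H981.InvHN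
open Cfsg.Agent.H839.Rad.HN (W A B C₁ D F τ k ext)

theorem sq2 (x : Spor.HN) : x ^ 2 = x * x := pow_two x

theorem nv_A : nv 1 0 = A := by simp [nv, nf, d0e, d1e, d2e, d3e]
theorem nv_AA : nv 2 0 = A * A := by
  simp [nv, nf, d0e, d1e, d2e, d3e]
  exact sq2 _
theorem nv_D : nv 125 0 = D := by simp [nv, nf, d0e, d1e, d2e, d3e]
theorem nv_C : nv 25 0 = C₁ := by simp [nv, nf, d0e, d1e, d2e, d3e]
theorem nv_CC : nv 50 0 = C₁ * C₁ := by
  simp [nv, nf, d0e, d1e, d2e, d3e]
  exact sq2 _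
theorem nv_BDD : nv 255 0 = B * (D * D) := by
  simp [nv, nf, d0e, d1e, d2e, d3e]
  exact sq2 _
theorem nv_BCD : nv 205 0 = B * (C₁ * (C₁ * (C₁ * D))) := by
  simp [nv, nf, d0e, d1e, d2e, d3e]
  have h : C₁ ^ 3 = C₁ * (C₁ * C₁) := by
    rw [show (3 : ℕ) = 1 + 1 + 1 from rfl, pow_add, pow_add, pow_one, mul_assoc]
  first
  | rw [h]; simp only [mul_assoc]
  | (rw [show (C₁ ^ (3 : ℤ)) = C₁ ^ (3 : ℕ) from zpow_natCast C₁ 3, h]; simp only [mul_assoc])

/-- **every element of order 5 of HN is conjugate to one of seven** -/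
theorem five_words {x : Spor.HN} (hx : orderOf x = 5) :
    IsConj A x ∨ IsConj (A * A) x ∨ IsConj D x ∨ IsConj C₁ x ∨ IsConj (C₁ * C₁) x ∨ IsConj (B * (D * D)) x ∨
      IsConj (B * (C₁ * (C₁ * (C₁ * D)))) x := by
  obtain ⟨v, hv, h⟩ := five_cases hx
  unfold reps at hv
  simp only [List.mem_cons, List.not_mem_nil, or_false] at hv
  rcases hv with rfl | rfl | rfl | rfl | rfl | rfl | rfl
  · rw [nv_A] at h; exact Or.inl h
  · rw [nv_AA] at h; exact Or.inr (Or.inl h)
  · rw [nv_D] at h; exact Or.inr (Or.inr (Or.inl h))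
  · rw [nv_C] at h; exact Or.inr (Or.inr (Or.inr (Or.inl h)))
  · rw [nv_CC] at h; exact Or.inr (Or.inr (Or.inr (Or.inr (Or.inl h))))
  · rw [nv_BDD] at h; exact Or.inr (Or.inr (Or.inr (Or.inr (Or.inr (Or.inl h)))))
  · rw [nv_BCD] at h; exact Or.inr (Or.inr (Or.inr (Or.inr (Or.inr (Or.inr h)))))

end Cfsg.Agent.H981.TC.HNFive
end
end
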